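import Mathlib

/-!
# Small and large classes in the alternating groups (helper310, for S3582)
-/

set_option autoImplicit false

namespace Cfsg.Agent.H310.TC7

open Subgroup Equiv.Perm

/-- an element moving at most four points has a small class -/
theorem index_le_pow {n : ℕ} (x : alternatingGroup (Fin n)) (v : Fin 4 → Fin n)
    (h : ∀ z, (x : Equiv.Perm (Fin n)) z ≠ z → ∃ i, v i = z) :
    (centralizer ({x} : Set (alternatingGroup (Fin n)))).index ≤ n ^ 4 := by
  classical
  have h1 : MulAction.stabilizer (alternatingGroup (Fin n)) v ≤ centralizer ({x} : Set (alternatingGroup (Fin n))) := by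
    intro g hg
    rw [MulAction.mem_stabilizer_iff] at hg
    rw [mem_centralizer_singleton_iff]
    apply Subtype.ext
    show (g : Equiv.Perm (Fin n)) * x = x * g
    have hd : Disjoint (g : Equiv.Perm (Fin n)) (x : Equiv.Perm (Fin n)) := by
      intro z
      by_cases hz : (x : Equiv.Perm (Fin n)) z = z
      · exact Or.inr hz
      · left
        obtain ⟨i, rfl⟩ := h z hz
        exact congrFun hg i
    exact hd.commute
  have h2 := MulAction.index_stabilizer (alternatingGroup (Fin n)) v
  have h3 : (MulAction.orbit (alternatingGroup (Fin n)) v).ncard ≤ Nat.card (Fin 4 → Fin n) := Set.ncard_le_card _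
  have h4 : Nat.card (Fin 4 → Fin n) = n ^ 4 := by
    rw [Nat.card_fun, Nat.card_fin, Nat.card_fin]
  rw [← h2, h4] at h3
  exact (Nat.le_of_dvd (Nat.pos_of_ne_zero (index_ne_zero_of_finite)) (index_dvd_of_le h1)).trans h3

/-- a `3`-cycle -/
theorem exists_three {n : ℕ} (hn : 5 ≤ n) : ∃ x : alternatingGroup (Fin n), orderOf x = 3 ∧
    (centralizer ({x} : Set (alternatingGroup (Fin n)))).index ≤ n ^ 4 := by
  let a : Fin n := ⟨0, by omega⟩
  let b : Fin n := ⟨1, by omega⟩
  let c : Fin n := ⟨2, by omega⟩
  have hab : a ≠ b := by simp [a, b]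
  have hac : a ≠ c := by simp [a, c]
  have hbc : b ≠ c := by simp [b, c]
  have h3 : IsThreeCycle (Equiv.swap a b * Equiv.swap a c) := isThreeCycle_swap_mul_swap_same hab hac hbc
  refine ⟨⟨Equiv.swap a b * Equiv.swap a c, h3.mem_alternatingGroup⟩, ?_, ?_⟩
  · rw [Subgroup.orderOf_mk, h3.orderOf]
  · refine index_le_pow _ ![a, b, c, a] fun z hz => ?_
    by_contra hcon
    push Not at hcon
    apply hz
    show (Equiv.swap a b * Equiv.swap a c) z = z
    have h0 : z ≠ a := fun h => hcon 0 (by simp [h])
    have h1 : z ≠ b := fun h => hcon 1 (by simp [h])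
    have h2 : z ≠ c := fun h => hcon 2 (by simp [h])
    rw [mul_apply, Equiv.swap_apply_of_ne_of_ne h0 h2, Equiv.swap_apply_of_ne_of_ne h0 h1]

/-- a double transposition -/
theorem exists_two {n : ℕ} (hn : 5 ≤ n) : ∃ x : alternatingGroup (Fin n), orderOf x = 2 ∧
    (centralizer ({x} : Set (alternatingGroup (Fin n)))).index ≤ n ^ 4 := by
  let a : Fin n := ⟨0, by omega⟩
  let b : Fin n := ⟨1, by omega⟩
  let c : Fin n := ⟨2, by omega⟩
  let d : Fin n := ⟨3, by omega⟩
  have hab : a ≠ b := by simp [a, b]
  have hac : a ≠ c := by simp [a, c]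
  have hbc : b ≠ c := by simp [b, c]
  have had : a ≠ d := by simp [a, d]
  have hbd : b ≠ d := by simp [b, d]
  have hcd : c ≠ d := by simp [c, d]
  have hmem : Equiv.swap a b * Equiv.swap c d ∈ alternatingGroup (Fin n) := by
    rw [mem_alternatingGroup, Equiv.Perm.sign_mul, sign_swap hab, sign_swap hcd]
    rfl
  have hcomm : Commute (Equiv.swap a b) (Equiv.swap c d) := by
    have : Disjoint (Equiv.swap a b) (Equiv.swap c d) := by
      intro z
      by_cases h1 : z = a
      · right; rw [h1]; exact Equiv.swap_apply_of_ne_of_ne hac had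
      by_cases h2 : z = b
      · right; rw [h2]; exact Equiv.swap_apply_of_ne_of_ne hbc hbd
      · left; exact Equiv.swap_apply_of_ne_of_ne h1 h2
    exact this.commute
  refine ⟨⟨Equiv.swap a b * Equiv.swap c d, hmem⟩, ?_, ?_⟩
  · rw [Subgroup.orderOf_mk]
    apply orderOf_eq_prime
    · rw [hcomm.mul_pow, sq, sq, Equiv.swap_mul_self, Equiv.swap_mul_self, one_mul]
    · intro h
      have h1 := congrArg (fun g : Equiv.Perm (Fin n) => g a) h
      simp only [mul_apply, one_apply] at h1
      rw [Equiv.swap_apply_of_ne_of_ne hac had, Equiv.swap_apply_left] at h1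
      exact hab h1.symm
  · refine index_le_pow _ ![a, b, c, d] fun z hz => ?_
    by_contra hcon
    push Not at hcon
    apply hz
    show (Equiv.swap a b * Equiv.swap c d) z = z
    have h0 : z ≠ a := fun h => hcon 0 (by simp [h])
    have h1 : z ≠ b := fun h => hcon 1 (by simp [h])
    have h2 : z ≠ c := fun h => hcon 2 (by simp [h])
    have h3 : z ≠ d := fun h => hcon 3 (by simp [h])
    rw [mul_apply, Equiv.swap_apply_of_ne_of_ne h2 h3, Equiv.swap_apply_of_ne_of_ne h0 h1]

/-- a large class -/
theorem exists_large {n : ℕ} (hn : 5 ≤ n) : ∃ x : alternatingGroup (Fin n),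
    n.factorial ≤ 2 * n * (centralizer ({x} : Set (alternatingGroup (Fin n)))).index := by
  classical
  obtain ⟨k, hk, hk1, hk2⟩ : ∃ k, Odd k ∧ n ≤ k + 1 ∧ k ≤ n := by
    rcases Nat.even_or_odd n with h | h
    · refine ⟨n - 1, ?_, by omega, by omega⟩
      obtain ⟨j, hj⟩ := h
      exact ⟨j - 1, by omega⟩
    · exact ⟨n, h, by omega, le_rfl⟩
  obtain ⟨g, hg⟩ := (exists_with_cycleType_iff (Fin n) (m := {k})).2 (by
    simp only [Multiset.sum_singleton, Fintype.card_fin, Multiset.mem_singleton, forall_eq]
    exact ⟨hk2, by omega⟩)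
  have hs : g ∈ alternatingGroup (Fin n) := by
    rw [mem_alternatingGroup, sign_of_cycleType, hg, Multiset.sum_singleton, Multiset.card_singleton]
    exact (hk.add_odd odd_one).neg_one_pow
  have hcard : Nat.card (centralizer ({g} : Set (Equiv.Perm (Fin n)))) ≤ n := by
    have h1 := nat_card_centralizer g
    rw [h1, hg]
    have h2 : (Fintype.card (Fin n) - ({k} : Multiset ℕ).sum).factorial = 1 := by
      rw [Multiset.sum_singleton, Fintype.card_fin]
      have : n - k = 0 ∨ n - k = 1 := by omega
      rcases this with h | h <;> rw [h] <;> rfl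
    rw [h2]
    simp
    exact hk2
  refine ⟨⟨g, hs⟩, ?_⟩
  set C := centralizer ({(⟨g, hs⟩ : alternatingGroup (Fin n))} : Set (alternatingGroup (Fin n))) with hC
  have h1 : Nat.card C ≤ n := by
    refine le_trans ?_ hcard
    let φ : C → centralizer ({g} : Set (Equiv.Perm (Fin n))) := fun y => ⟨(y.1 : Equiv.Perm (Fin n)), by
      have h2 : y.1 * ⟨g, hs⟩ = ⟨g, hs⟩ * y.1 := mem_centralizer_singleton_iff.1 y.2
      rw [mem_centralizer_singleton_iff]
      exact congrArg Subtype.val h2⟩
    refine Nat.card_le_card_of_injective φ ?_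
    intro y z hyz
    have h3 : (y.1 : Equiv.Perm (Fin n)) = (z.1 : Equiv.Perm (Fin n)) :=
      congrArg (fun w : centralizer ({g} : Set (Equiv.Perm (Fin n))) => (w : Equiv.Perm (Fin n))) hyz
    exact Subtype.ext (Subtype.ext h3)
  have h2 : 2 * Nat.card (alternatingGroup (Fin n)) = n.factorial := by
    have : Nontrivial (Fin n) := Fin.nontrivial_iff_two_le.2 (by omega)
    rw [two_mul_nat_card_alternatingGroup, Nat.card_perm, Nat.card_fin]
  calc n.factorial = 2 * (C.index * Nat.card C) := by rw [C.index_mul_card, h2]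
    _ ≤ 2 * (C.index * n) := Nat.mul_le_mul_left _ (Nat.mul_le_mul_left _ h1)
    _ = 2 * n * C.index := by ring

end Cfsg.Agent.H310.TC7
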