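import Mathlib
import Cfsg.Agent.S3800
import Cfsg.Agent.H137.TC7.Base

/-!
# Class sizes in normal subgroups and in quotients by normal `p`-subgroups (helper310, for S3582)
-/

set_option autoImplicit false

namespace Cfsg.Agent.H310.TC7

open Subgroup Cfsg.Agent.H137.TC7

variable {G : Type*} [Group G]

/-- `|G : C| = |N : C ∩ N| |G : CN|` for `N` normal. -/
theorem index_eq_relIndex_mul [Finite G] (C N : Subgroup G) [N.Normal] :
    C.index = C.relIndex N * (C ⊔ N).index := by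
  have h1 : N.relIndex (C ⊔ N) = N.relIndex C := relIndex_sup_right C N
  have h2 : N.relIndex (C ⊔ N) * (C ⊔ N).index = N.index := relIndex_mul_index le_sup_right
  have h3 : (C ⊓ N).relIndex C * C.index = (C ⊓ N).index := relIndex_mul_index inf_le_left
  have h4 : (C ⊓ N).relIndex N * N.index = (C ⊓ N).index := relIndex_mul_index inf_le_right
  rw [inf_relIndex_left] at h3
  rw [inf_relIndex_right] at h4
  have h5 : N.relIndex C ≠ 0 := (N.subgroupOf C).index_ne_zero_of_finite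
  apply Nat.eq_of_mul_eq_mul_left (Nat.pos_of_ne_zero h5)
  rw [h3, ← h4, ← h2, h1]
  ring

/-- `|N : C ∩ N|` divides `|G : C|` for `N` normal. -/
theorem relIndex_dvd_index_right [Finite G] (C N : Subgroup G) [N.Normal] : C.relIndex N ∣ C.index :=
  Dvd.intro _ (index_eq_relIndex_mul C N).symm

/-- `|B : C ∩ B|` divides `|Y : C ∩ Y|` for `B` normal in `Y`. -/
theorem relIndex_dvd_relIndex [Finite G] (C : Subgroup G) {B Y : Subgroup G} (hB : B ≤ Y)
    (hY : Y ≤ normalizer (B : Set G)) : C.relIndex B ∣ C.relIndex Y := by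
  have hn : (B.subgroupOf Y).Normal := normal_subgroupOf_iff_le_normalizer hB |>.2 hY
  have h1 := relIndex_dvd_index_right (C.subgroupOf Y) (B.subgroupOf Y)
  rwa [relIndex_subgroupOf hB] at h1

/-- class sizes of quotients divide -/
theorem cs_quotient_dvd [Finite G] (K : Subgroup G) [K.Normal] (g : G) : cs (g : G ⧸ K) ∣ cs g := by
  have hsurj := QuotientGroup.mk'_surjective K
  have h1 : (centralizer ({g} : Set G)).map (QuotientGroup.mk' K) ≤ centralizer ({(g : G ⧸ K)} : Set (G ⧸ K)) := by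
    rintro _ ⟨c, hc, rfl⟩
    rw [SetLike.mem_coe, mem_centralizer_singleton_iff] at hc
    rw [mem_centralizer_singleton_iff]
    show (c : G ⧸ K) * (g : G ⧸ K) = (g : G ⧸ K) * (c : G ⧸ K)
    rw [← QuotientGroup.mk_mul, hc, QuotientGroup.mk_mul]
  exact (index_dvd_of_le h1).trans (index_map_dvd _ hsurj)

/-- lifting an element of prime power order -/
theorem exists_lift {K : Subgroup G} [K.Normal] [Finite G] {p ℓ : ℕ} (hp : p.Prime) (hK : IsPGroup p K)
    (hℓ : ℓ.Prime) (hℓp : ℓ ≠ p) {x : G ⧸ K} {k : ℕ} (hx : orderOf x = ℓ ^ k) :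
    ∃ g : G, (g : G ⧸ K) = x ∧ orderOf g ∣ ℓ ^ k := by
  obtain ⟨y, rfl⟩ := QuotientGroup.mk_surjective x
  obtain ⟨c, hc⟩ : ∃ c, Nat.card K = p ^ c := by
    have := Fact.mk hp
    exact IsPGroup.iff_card.1 hK
  have hcop : (ℓ ^ k).Coprime (p ^ c) := Nat.Coprime.pow _ _ ((Nat.coprime_primes hℓ hp).2 hℓp)
  obtain ⟨u, hu1, hu2⟩ := Nat.chineseRemainder hcop 1 0
  refine ⟨y ^ u, ?_, ?_⟩
  · rw [QuotientGroup.mk_pow]
    have h1 : (y : G ⧸ K) ^ u = (y : G ⧸ K) ^ 1 := by
      rw [pow_eq_pow_iff_modEq, hx]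
      exact hu1
    rw [h1, pow_one]
  · apply orderOf_dvd_of_pow_eq_one
    obtain ⟨v, hv⟩ := (Nat.modEq_zero_iff_dvd.1 hu2)
    have h1 : y ^ (ℓ ^ k) ∈ K := by
      rw [← QuotientGroup.eq_one_iff, QuotientGroup.mk_pow, ← hx, pow_orderOf_eq_one]
    have h2 : (y ^ (ℓ ^ k)) ^ (p ^ c) = 1 := by
      have := pow_card_eq_one' (x := (⟨_, h1⟩ : K))
      rw [hc] at this
      exact congrArg Subtype.val this
    rw [← pow_mul, hv]
    calc y ^ (p ^ c * v * ℓ ^ k) = ((y ^ (ℓ ^ k)) ^ (p ^ c)) ^ v := by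
          rw [← pow_mul, ← pow_mul]; congr 1; ring
      _ = 1 := by rw [h2, one_pow]

/-- the `p`-prime parts of the class sizes of elements of prime power order `ℓ ^ k`, `ℓ ≠ p` -/
theorem exists_cs [Finite G] {K : Subgroup G} [K.Normal] {p ℓ : ℕ} (hp : p.Prime) (hK : IsPGroup p K)
    (hℓ : ℓ.Prime) (hℓp : ℓ ≠ p) {x : G ⧸ K} {k : ℕ} (hx : orderOf x = ℓ ^ k) :
    ∃ g : G, (g : G ⧸ K) = x ∧ ∃ c, cs g = p ^ c * cs x := by
  obtain ⟨g, hgx, hg⟩ := exists_lift hp hK hℓ hℓp hx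
  refine ⟨g, hgx, ?_⟩
  have := Fact.mk hp
  have := Fact.mk hℓ
  obtain ⟨c, hc⟩ := IsPGroup.iff_card.1 hK
  have hKℓ : (Nat.card K).Coprime ℓ := by
    rw [hc]
    exact Nat.Coprime.pow_left _ ((Nat.coprime_primes hp hℓ).2 hℓp.symm)
  have hPg : IsPGroup ℓ (zpowers g) := by
    obtain ⟨j, -, hj⟩ := (Nat.dvd_prime_pow hℓ).1 hg
    exact IsPGroup.of_card (n := j) (by rw [Nat.card_zpowers, hj])
  have h1 := (Cfsg.Agent.S3800.result K hKℓ (zpowers g) hPg).2
  have h2 : (zpowers g).map (QuotientGroup.mk' K) = zpowers x := by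
    rw [MonoidHom.map_zpowers]
    show zpowers (g : G ⧸ K) = _
    rw [hgx]
  have hcz : ∀ {H : Type _} [Group H] (z : H), centralizer ((zpowers z : Subgroup H) : Set H) = centralizer ({z} : Set H) := by
    intro H _ z
    rw [zpowers_eq_closure, centralizer_closure]
  rw [h2, hcz, hcz] at h1
  have h3 : cs x = (centralizer ({g} : Set G) ⊔ K).index := by
    show (centralizer ({x} : Set (G ⧸ K))).index = _
    rw [h1, index_map, (QuotientGroup.mk' K).range_eq_top_of_surjective (QuotientGroup.mk'_surjective K), index_top,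
      mul_one, QuotientGroup.ker_mk']
  have h4 := index_eq_relIndex_mul (centralizer ({g} : Set G)) K
  obtain ⟨d, -, hd⟩ : ∃ d ≤ c, (centralizer ({g} : Set G)).relIndex K = p ^ d := by
    rw [← Nat.dvd_prime_pow hp, ← hc]
    exact relIndex_dvd_card _ _
  exact ⟨d, by rw [h3, ← hd]; exact h4⟩

end Cfsg.Agent.H310.TC7
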