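import Mathlib
import Cfsg.Agent.H310.TC7.Quot
import Cfsg.Agent.H992.TC.Core

/-!
# No normal `ℓ`-subgroups (helper310, for S3582)
-/

set_option autoImplicit false

namespace Cfsg.Agent.H310.TC7

open Subgroup Cfsg.Agent.H137.TC7 Finset

/-- If the class sizes of the non-identity elements of the normal `ℓ`-subgroup `V` are larger than twice the `ℓ`-part
of a common multiple `M` of all class sizes, then `V = 1`. -/
theorem normal_eq_bot {Q : Type*} [Group Q] [Finite Q] {M ℓ : ℕ} (hℓ : ℓ.Prime) (hM : M ≠ 0)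
    (hdvd : ∀ x : Q, cs x ∣ M) (V : Subgroup Q) [hVn : V.Normal] (hV : IsPGroup ℓ V)
    (hbig : ∀ v ∈ V, v ≠ 1 → 2 * ordProj[ℓ] M < cs v) : V = ⊥ := by
  classical
  have := Fact.mk hℓ
  have := Fintype.ofFinite Q
  by_contra hV1
  obtain ⟨v0, hv0, hv01⟩ : ∃ v ∈ V, v ≠ 1 := by
    by_contra hcon
    push Not at hcon
    exact hV1 (eq_bot_iff.2 fun x hx => mem_bot.2 (hcon x hx))
  have hw := Cfsg.Agent.H992.TC.index_lt_card hVn hv0 hv01
  set a := ordProj[ℓ] M with ha
  have ha0 : 0 < a := pow_pos hℓ.pos _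
  set n := Nat.card Q with hn
  set w := Nat.card V with hw'
  have hn0 : 0 < n := Nat.card_pos
  -- the double count
  have hcount : ∑ x : Q, Nat.card (V ⊓ centralizer ({x} : Set Q) : Subgroup Q) =
      ∑ v : V, Nat.card (centralizer ({(v : Q)} : Set Q)) := by
    have h1 : ∀ x : Q, Nat.card (V ⊓ centralizer ({x} : Set Q) : Subgroup Q) =
        ∑ v : V, if (v : Q) * x = x * v then 1 else 0 := by
      intro x
      rw [Finset.sum_boole, Nat.cast_id, Nat.card_eq_fintype_card]
      rw [← Fintype.card_coe]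
      refine Fintype.card_congr ⟨fun y => ⟨⟨y, y.2.1⟩, ?_⟩, fun y => ⟨y.1, y.1.2, ?_⟩, fun y => rfl, fun y => rfl⟩
      · rw [Finset.mem_filter]
        exact ⟨Finset.mem_univ _, mem_centralizer_singleton_iff.1 y.2.2⟩
      · exact mem_centralizer_singleton_iff.2 (Finset.mem_filter.1 y.2).2
    have h2 : ∀ v : V, Nat.card (centralizer ({(v : Q)} : Set Q)) =
        ∑ x : Q, if (v : Q) * x = x * v then 1 else 0 := by
      intro v
      rw [Finset.sum_boole, Nat.cast_id, Nat.card_eq_fintype_card]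
      rw [← Fintype.card_coe]
      refine Fintype.card_congr ⟨fun y => ⟨y.1, ?_⟩, fun y => ⟨y.1, ?_⟩, fun y => rfl, fun y => rfl⟩
      · rw [Finset.mem_filter]
        exact ⟨Finset.mem_univ _, (mem_centralizer_singleton_iff.1 y.2).symm⟩
      · exact mem_centralizer_singleton_iff.2 (Finset.mem_filter.1 y.2).2.symm
    rw [Finset.sum_congr rfl fun x _ => h1 x, Finset.sum_congr rfl fun v _ => h2 v, Finset.sum_comm]
  -- lower bound
  have hlow : n * w ≤ a * ∑ x : Q, Nat.card (V ⊓ centralizer ({x} : Set Q) : Subgroup Q) := by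
    have h1 : ∀ x : Q, w ≤ a * Nat.card (V ⊓ centralizer ({x} : Set Q) : Subgroup Q) := by
      intro x
      have h2 : (centralizer ({x} : Set Q)).relIndex V * Nat.card (V ⊓ centralizer ({x} : Set Q) : Subgroup Q) = w := by
        have h3 := (((centralizer ({x} : Set Q)).subgroupOf V)).index_mul_card
        have h4 : Nat.card ((centralizer ({x} : Set Q)).subgroupOf V) =
            Nat.card (V ⊓ centralizer ({x} : Set Q) : Subgroup Q) := by
          rw [inf_comm, ← subgroupOf_map_subtype]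
          exact Nat.card_congr (((centralizer ({x} : Set Q)).subgroupOf V).equivMapOfInjective _
            V.subtype_injective).toEquiv
        rw [h4] at h3
        exact h3
      have h5 : (centralizer ({x} : Set Q)).relIndex V ∣ M := (relIndex_dvd_index_right _ _).trans (hdvd x)
      obtain ⟨k, hk⟩ := IsPGroup.iff_card.1 hV
      obtain ⟨j, -, hj⟩ : ∃ j ≤ k, (centralizer ({x} : Set Q)).relIndex V = ℓ ^ j := by
        rw [← Nat.dvd_prime_pow hℓ, ← hk]
        exact relIndex_dvd_card _ _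
      have h6 : (centralizer ({x} : Set Q)).relIndex V ≤ a := by
        rw [hj] at h5 ⊢
        exact Nat.pow_le_pow_right hℓ.pos ((hℓ.pow_dvd_iff_le_factorization hM).1 h5)
      rw [← h2]
      exact Nat.mul_le_mul_right _ h6
    rw [Finset.mul_sum]
    calc n * w = ∑ x : Q, w := by
          rw [Finset.sum_const, Finset.card_univ, smul_eq_mul, hn, Nat.card_eq_fintype_card]
      _ ≤ _ := Finset.sum_le_sum fun x _ => h1 x
  -- upper bound
  have hup : (2 * a + 1) * ∑ v : V, Nat.card (centralizer ({(v : Q)} : Set Q)) ≤ (2 * a + 1) * n + (w - 1) * n := by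
    have h1 : ∀ v : V, v ≠ 1 → (2 * a + 1) * Nat.card (centralizer ({(v : Q)} : Set Q)) ≤ n := by
      intro v hv
      have h2 := hbig v v.2 (fun h => hv (Subtype.ext h))
      have h3 := (centralizer ({(v : Q)} : Set Q)).index_mul_card
      calc (2 * a + 1) * Nat.card (centralizer ({(v : Q)} : Set Q)) ≤
          cs (v : Q) * Nat.card (centralizer ({(v : Q)} : Set Q)) := Nat.mul_le_mul_right _ h2
        _ = n := h3
    have h4 : Nat.card (centralizer ({((1 : V) : Q)} : Set Q)) ≤ n := Nat.card_mono (Set.toFinite _) (Set.subset_univ _) |>.trans (by simp [hn])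
    rw [← Finset.add_sum_erase _ _ (Finset.mem_univ (1 : V)), mul_add, Finset.mul_sum]
    apply Nat.add_le_add (Nat.mul_le_mul_left _ h4)
    calc ∑ v ∈ Finset.univ.erase (1 : V), (2 * a + 1) * Nat.card (centralizer ({(v : Q)} : Set Q)) ≤
        ∑ v ∈ Finset.univ.erase (1 : V), n := Finset.sum_le_sum fun v hv => h1 v (Finset.ne_of_mem_erase hv)
      _ = (w - 1) * n := by
        rw [Finset.sum_const, smul_eq_mul, Finset.card_erase_of_mem (Finset.mem_univ _), Finset.card_univ, hw',
          Nat.card_eq_fintype_card]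
  rw [hcount] at hlow
  have hw2 : 2 * a + 1 < w := lt_of_le_of_lt (hbig v0 hv0 hv01) hw
  obtain ⟨w1, hw1⟩ : ∃ w1, w = w1 + 1 := ⟨w - 1, by omega⟩
  have h7 : (2 * a + 1) * (n * w) ≤ a * ((2 * a + 1) * n + (w - 1) * n) :=
    calc (2 * a + 1) * (n * w) ≤ (2 * a + 1) * (a * ∑ v : V, Nat.card (centralizer ({(v : Q)} : Set Q))) :=
          Nat.mul_le_mul_left _ hlow
      _ = a * ((2 * a + 1) * ∑ v : V, Nat.card (centralizer ({(v : Q)} : Set Q))) := by ring
      _ ≤ _ := Nat.mul_le_mul_left _ hup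
  rw [hw1, Nat.add_sub_cancel] at h7
  have h8 : (2 * a + 1) * (w1 + 1) ≤ a * (2 * a + 1) + a * w1 := by
    apply Nat.le_of_mul_le_mul_left _ hn0
    calc n * ((2 * a + 1) * (w1 + 1)) = (2 * a + 1) * (n * (w1 + 1)) := by ring
      _ ≤ _ := h7
      _ = n * (a * (2 * a + 1) + a * w1) := by ring
  nlinarith

end Cfsg.Agent.H310.TC7
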