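import Mathlib
import Cfsg.Agent.H310.TC7.Quot
import Cfsg.Agent.Lib.MinNormal
import Cfsg.Agent.SolvableStructure.HallConverse
import Cfsg.Prelude.Def_KGroupFacts

/-!
# Two commuting simple subgroups (helper310, for S3582)
-/

set_option autoImplicit false

namespace Cfsg.Agent.H310.TC7

open Subgroup Cfsg.Agent.H137.TC7

universe u

variable {Q : Type u} [Group Q]

/-- commuting elements of coprime orders -/
theorem centralizer_mul_eq [Finite Q] {x y : Q} (hxy : Commute x y) (hc : (orderOf x).Coprime (orderOf y)) :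
    centralizer ({x * y} : Set Q) = centralizer ({x} : Set Q) ⊓ centralizer ({y} : Set Q) := by
  apply le_antisymm
  · have key : ∀ a b : Q, Commute a b → (orderOf a).Coprime (orderOf b) → ∀ z : Q, z * (a * b) = (a * b) * z →
        z * a = a * z := by
      intro a b hab hco z hz
      obtain ⟨w, hw1, hw2⟩ := Nat.chineseRemainder hco 1 0
      have h1 : (a * b) ^ w = a := by
        rw [hab.mul_pow]
        have h2 : a ^ w = a ^ 1 := by rw [pow_eq_pow_iff_modEq]; exact hw1
        have h3 : b ^ w = 1 := by rw [← pow_zero b, pow_eq_pow_iff_modEq]; exact hw2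
        rw [h2, h3, pow_one, mul_one]
      have h4 : Commute z (a * b) := hz
      have h5 := h4.pow_right w
      rw [h1] at h5
      exact h5
    intro z hz
    rw [mem_centralizer_singleton_iff] at hz
    refine mem_inf.2 ⟨mem_centralizer_singleton_iff.2 (key x y hxy hc z hz), mem_centralizer_singleton_iff.2 ?_⟩
    exact key y x hxy.symm hc.symm z (by rw [← hxy.eq]; exact hz)
  · intro z hz
    obtain ⟨h1, h2⟩ := mem_inf.1 hz
    rw [mem_centralizer_singleton_iff] at h1 h2 ⊢
    rw [← mul_assoc, h1, mul_assoc, h2, mul_assoc]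

/-- simple subgroups normalised by `N ≥ A, B` with non-trivial intersection are equal -/
theorem eq_of_inf_ne_bot {N A B : Subgroup Q} (hA : A ≤ N) (hB : B ≤ N) (hNA : N ≤ normalizer (A : Set Q))
    (hNB : N ≤ normalizer (B : Set Q)) (hAs : IsSimpleGroup A) (hBs : IsSimpleGroup B) (h : A ⊓ B ≠ ⊥) : A = B := by
  have key : ∀ A B : Subgroup Q, A ≤ N → N ≤ normalizer (B : Set Q) → IsSimpleGroup A → A ⊓ B ≠ ⊥ → A ≤ B := by
    intro A B hA hNB hAs h
    have hn : (B.subgroupOf A).Normal := by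
      have h1 : A ≤ normalizer (B : Set Q) := hA.trans hNB
      constructor
      rintro ⟨a, ha⟩ hab ⟨g, hg⟩
      rw [mem_subgroupOf] at hab ⊢
      exact (mem_normalizer_iff.1 (h1 hg) a).1 hab
    rcases hn.eq_bot_or_eq_top with h1 | h1
    · exfalso
      apply h
      rw [eq_bot_iff]
      rintro x ⟨hxA, hxB⟩
      have h2 : (⟨x, hxA⟩ : A) ∈ B.subgroupOf A := mem_subgroupOf.2 hxB
      rw [h1, mem_bot] at h2
      exact mem_bot.2 (congrArg Subtype.val h2)
    · exact subgroupOf_eq_top.1 h1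
  exact le_antisymm (key A B hA hNB hAs h) (key B A hB hNA hBs (by rwa [inf_comm]))

/-- `C_Q(x) ≤ N_Q(A)` for `1 ≠ x ∈ A`, `A` simple and normalised by the normal subgroup `N ≥ A`. -/
theorem centralizer_le_normalizer {N A : Subgroup Q} [N.Normal] (hA : A ≤ N) (hNA : N ≤ normalizer (A : Set Q))
    (hAs : IsSimpleGroup A) {x : Q} (hx : x ∈ A) (hx1 : x ≠ 1) :
    centralizer ({x} : Set Q) ≤ normalizer (A : Set Q) := by
  intro g hg
  rw [mem_centralizer_singleton_iff] at hg
  have hNA' := Cfsg.Agent.Lib.MinNormal.le_normalizer_map_conj hNA g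
  have hA' : A.map (MulAut.conj g).toMonoidHom ≤ N := by
    rw [← Cfsg.Agent.Lib.MinNormal.map_conj_normal g N]
    exact map_mono hA
  have hAs' : IsSimpleGroup (A.map (MulAut.conj g).toMonoidHom : Subgroup Q) :=
    (A.equivMapOfInjective _ (MulAut.conj g).injective).symm.isSimpleGroup
  have h1 : A = A.map (MulAut.conj g).toMonoidHom := by
    refine eq_of_inf_ne_bot hA hA' hNA hNA' hAs hAs' fun h => hx1 ?_
    have h2 : x ∈ A ⊓ A.map (MulAut.conj g).toMonoidHom := by
      refine ⟨hx, x, hx, ?_⟩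
      show g * x * g⁻¹ = x
      rw [hg]; group
    rw [h, mem_bot] at h2
    exact h2
  exact mem_normalizer_iff_map_conj_eq.2 h1.symm

/-- The class size of `x ∈ A` under the normaliser of `A`. -/
theorem relIndex_normalizer_dvd [Finite Q] {A : Subgroup Q} {x : Q} (hx : x ∈ A) :
    (centralizer ({x} : Set Q)).relIndex (normalizer (A : Set Q)) ∣
      (centralizer ({x} : Set Q)).relIndex A * Nat.card (Cfsg.Out A) := by
  set Y := normalizer (A : Set Q) with hY
  let φ : Y →* MulAut A := A.normalizerMonoidHom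
  let S : Subgroup (MulAut A) :=
    { carrier := {α | α ⟨x, hx⟩ = ⟨x, hx⟩}
      one_mem' := rfl
      mul_mem' := fun {a b} ha hb => by
        show a (b ⟨x, hx⟩) = ⟨x, hx⟩
        rw [show b ⟨x, hx⟩ = ⟨x, hx⟩ from hb]
        exact ha
      inv_mem' := fun {a} ha => by
        show a⁻¹ ⟨x, hx⟩ = ⟨x, hx⟩
        rw [MulAut.inv_apply, MulEquiv.symm_apply_eq]
        exact (show a ⟨x, hx⟩ = ⟨x, hx⟩ from ha).symm }
  have hS : ∀ α : MulAut A, α ∈ S ↔ α ⟨x, hx⟩ = ⟨x, hx⟩ := fun α => Iff.rfl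
  have h1 : S.comap φ = (centralizer ({x} : Set Q)).subgroupOf Y := by
    ext ⟨y, hy⟩
    rw [mem_comap, hS, mem_subgroupOf, mem_centralizer_singleton_iff]
    constructor
    · intro h
      have h2 : y * x * y⁻¹ = x := congrArg Subtype.val h
      calc y * x = y * x * y⁻¹ * y := by group
        _ = x * y := by rw [h2]
    · intro h
      apply Subtype.ext
      show y * x * y⁻¹ = x
      rw [show y * x = x * y from h]; group
  have h2 : S.comap (MulAut.conj : A →* MulAut A) = (centralizer ({x} : Set Q)).subgroupOf A := by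
    ext ⟨y, hy⟩
    rw [mem_comap, hS, mem_subgroupOf, mem_centralizer_singleton_iff]
    constructor
    · intro h
      have h2 : y * x * y⁻¹ = x := congrArg Subtype.val h
      calc y * x = y * x * y⁻¹ * y := by group
        _ = x * y := by rw [h2]
    · intro h
      apply Subtype.ext
      show y * x * y⁻¹ = x
      rw [show y * x = x * y from h]; group
  have h3 : S.relIndex φ.range = (centralizer ({x} : Set Q)).relIndex Y := by
    show _ = ((centralizer ({x} : Set Q)).subgroupOf Y).index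
    rw [← h1, index_comap]
  have h4 : S.relIndex (Cfsg.Inn A) = (centralizer ({x} : Set Q)).relIndex A := by
    show _ = ((centralizer ({x} : Set Q)).subgroupOf A).index
    rw [← h2, index_comap]
  have h5 : Cfsg.Inn A ≤ φ.range := by
    rintro _ ⟨a, rfl⟩
    exact ⟨⟨a, le_normalizer a.2⟩, MulEquiv.ext fun b => Subtype.ext rfl⟩
  rw [← h3, ← h4]
  have h6 : S.relIndex φ.range ∣ (S ⊓ Cfsg.Inn A).relIndex φ.range := relIndex_dvd_of_le_left _ inf_le_left
  refine h6.trans ?_
  rw [← relIndex_inf_mul_relIndex, inf_of_le_left h5]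
  refine Nat.mul_dvd_mul_left _ ?_
  have h7 : (Cfsg.Inn A).relIndex φ.range ∣ (Cfsg.Inn A).index := relIndex_dvd_index_of_normal _ _
  rwa [index_eq_card] at h7

theorem cs_dvd [Finite Q] {A : Subgroup Q} {x : Q} (hx : x ∈ A)
    (hC : centralizer ({x} : Set Q) ≤ normalizer (A : Set Q)) :
    cs x ∣ (normalizer (A : Set Q)).index * Nat.card (Cfsg.Out A) * (centralizer ({x} : Set Q)).relIndex A := by
  have h1 : (centralizer ({x} : Set Q)).relIndex (normalizer (A : Set Q)) * (normalizer (A : Set Q)).index = cs x :=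
    relIndex_mul_index hC
  rw [← h1, mul_comm]
  refine (Nat.mul_dvd_mul_left _ (relIndex_normalizer_dvd hx)).trans ?_
  rw [mul_assoc, mul_comm (Nat.card _)]

/-- the hypotheses on the class sizes of `Q` -/
structure Ty (Q : Type*) [Group Q] (p M : ℕ) (m : Fin 4 → ℕ) : Prop where
  pos : 0 < M
  coprime : ∀ i j, i ≠ j → (m i).Coprime (m j)
  full : ∀ i, (m i).Coprime (M / m i)
  dvd : ∀ x : Q, cs x ∣ M
  typ : ∀ x : Q, x ≠ 1 → ∀ ℓ : ℕ, ℓ.Prime → ℓ ≠ p → orderOf x = ℓ → ∃ i0, ∀ i, i ≠ i0 → m i ∣ cs x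

/-- **Two commuting simple subgroups.** -/
theorem Ty.pair [Finite Q] {p M : ℕ} {m : Fin 4 → ℕ} (h : Ty Q p M m) {A B : Subgroup Q}
    (hA3 : 3 ≤ (Nat.card A).primeFactors.card) (hB3 : 3 ≤ (Nat.card B).primeFactors.card)
    (hAB : ∀ a ∈ A, ∀ b ∈ B, Commute a b)
    (hCA : ∀ x ∈ A, x ≠ 1 → centralizer ({x} : Set Q) ≤ normalizer (A : Set Q))
    (hA : ∀ y ∈ B, y ≠ 1 → ∃ A' : Subgroup Q, A ≤ A' ∧ A' ≤ normalizer (A : Set Q) ∧
      A' ≤ centralizer ({y} : Set Q) ∧ centralizer ({y} : Set Q) ≤ normalizer (A' : Set Q)) :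
    ∃ i j, i ≠ j ∧ m i * m j ∣ (normalizer (A : Set Q)).index * Nat.card (Cfsg.Out A) := by
  -- the primes
  obtain ⟨r, hr, hrA, hrp⟩ : ∃ r : ℕ, r.Prime ∧ r ∣ Nat.card A ∧ r ≠ p := by
    by_contra hcon
    push Not at hcon
    have h1 : (Nat.card A).primeFactors ⊆ {p} := by
      intro r hr
      rw [Finset.mem_singleton]
      exact hcon r (Nat.prime_of_mem_primeFactors hr) (Nat.dvd_of_mem_primeFactors hr)
    have h2 := Finset.card_le_card h1
    rw [Finset.card_singleton] at h2
    omega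
  obtain ⟨s, hs, hsB, hsp, hsr⟩ : ∃ s : ℕ, s.Prime ∧ s ∣ Nat.card B ∧ s ≠ p ∧ s ≠ r := by
    by_contra hcon
    push Not at hcon
    have h1 : (Nat.card B).primeFactors ⊆ {p, r} := by
      intro s hs
      rw [Finset.mem_insert, Finset.mem_singleton]
      by_cases h3 : s = p
      · exact Or.inl h3
      · exact Or.inr (hcon s (Nat.prime_of_mem_primeFactors hs) (Nat.dvd_of_mem_primeFactors hs) h3)
    have h2 := (Finset.card_le_card h1).trans Finset.card_le_two
    omega
  have hrf := Fact.mk hr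
  have hsf := Fact.mk hs
  obtain ⟨⟨x, hxA⟩, hx⟩ := exists_prime_orderOf_dvd_card' r hrA
  obtain ⟨⟨y, hyB⟩, hy⟩ := exists_prime_orderOf_dvd_card' s hsB
  rw [Subgroup.orderOf_mk] at hx hy
  have hx1 : x ≠ 1 := by rintro rfl; rw [orderOf_one] at hx; exact hr.one_lt.ne hx
  have hy1 : y ≠ 1 := by rintro rfl; rw [orderOf_one] at hy; exact hs.one_lt.ne hy
  have hxy : Commute x y := hAB x hxA y hyB
  have hC := centralizer_mul_eq hxy (by rw [hx, hy]; exact (Nat.coprime_primes hr hs).2 hsr.symm)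
  obtain ⟨ix, hix⟩ := h.typ x hx1 r hr hrp hx
  obtain ⟨iy, hiy⟩ := h.typ y hy1 s hs hsp hy
  obtain ⟨i, j, hij, hi1, hi2, hj1, hj2⟩ : ∃ i j : Fin 4, i ≠ j ∧ i ≠ ix ∧ i ≠ iy ∧ j ≠ ix ∧ j ≠ iy := by
    clear hix hiy
    revert ix iy
    decide
  refine ⟨i, j, hij, ?_⟩
  have key : ∀ i, i ≠ ix → i ≠ iy → m i ∣ (normalizer (A : Set Q)).index * Nat.card (Cfsg.Out A) := by
    intro i hi1 hi2
    have hm1 := hix i hi1
    have hm2 := hiy i hi2
    -- `|C(y) : C(x) ∩ C(y)|` is prime to `m i`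
    have h1 : (centralizer ({x} : Set Q)).relIndex (centralizer ({y} : Set Q)) * cs y ∣ M := by
      have h2 := h.dvd (x * y)
      have h3 : (centralizer ({x} : Set Q) ⊓ centralizer ({y} : Set Q)).relIndex (centralizer ({y} : Set Q)) *
          (centralizer ({y} : Set Q)).index = (centralizer ({x * y} : Set Q)).index := by
        rw [hC]
        exact relIndex_mul_index inf_le_right
      rw [inf_relIndex_right] at h3
      rw [h3]
      exact h2
    have h2 : ((centralizer ({x} : Set Q)).relIndex (centralizer ({y} : Set Q))).Coprime (m i) := by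
      refine Nat.Coprime.symm (Nat.Coprime.coprime_dvd_right ?_ (h.full i))
      obtain ⟨c, hc⟩ := h1
      obtain ⟨d, hd⟩ := hm2
      have hmpos : 0 < m i := Nat.pos_of_ne_zero fun h0 => by
        rw [h0, zero_mul] at hd
        exact (centralizer ({y} : Set Q)).index_ne_zero_of_finite hd
      refine ⟨d * c, ?_⟩
      apply Nat.div_eq_of_eq_mul_right hmpos
      rw [hc, hd]; ring
    obtain ⟨A', hAA', hA'n, hA'C, hCA'⟩ := hA y hyB hy1
    have h3 : (centralizer ({x} : Set Q)).relIndex A ∣ (centralizer ({x} : Set Q)).relIndex (centralizer ({y} : Set Q)) :=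
      (relIndex_dvd_relIndex _ hAA' hA'n).trans (relIndex_dvd_relIndex _ hA'C hCA')
    have h4 : ((centralizer ({x} : Set Q)).relIndex A).Coprime (m i) := Nat.Coprime.coprime_dvd_left h3 h2
    exact h4.symm.dvd_of_dvd_mul_right (hm1.trans (cs_dvd hxA (hCA x hxA hx1)))
  exact (h.coprime i j hij).mul_dvd_of_dvd_of_dvd (key i hi1 hi2) (key j hj1 hj2)

end Cfsg.Agent.H310.TC7
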