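import Mathlib
import Cfsg.Agent.H310.TC7.Pair
import Cfsg.Agent.H934.OutAll

/-!
# The number of simple factors and the outer automorphisms (helper310, for S3582)
-/

set_option autoImplicit false

namespace Cfsg.Agent.H310.TC7

open Subgroup Cfsg.Agent.H137.TC7

universe u

/-- centralisers in a direct product -/
theorem index_centralizer_pi {ι : Type*} [Fintype ι] {T : ι → Type*} [∀ i, Group (T i)] [∀ i, Finite (T i)]
    (f : ∀ i, T i) : (centralizer ({f} : Set (∀ i, T i))).index = ∏ i, (centralizer ({f i} : Set (T i))).index := by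
  have h1 : Nat.card (centralizer ({f} : Set (∀ i, T i))) = ∏ i, Nat.card (centralizer ({f i} : Set (T i))) := by
    rw [← Nat.card_pi]
    refine Nat.card_congr ⟨fun g i => ⟨g.1 i, ?_⟩, fun g => ⟨fun i => (g i).1, ?_⟩, fun g => rfl, fun g => rfl⟩
    · have := mem_centralizer_singleton_iff.1 g.2
      exact mem_centralizer_singleton_iff.2 (congrFun this i)
    · rw [mem_centralizer_singleton_iff]
      funext i
      exact mem_centralizer_singleton_iff.1 (g i).2
  have h2 := (centralizer ({f} : Set (∀ i, T i))).index_mul_card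
  have h3 : (∏ i, (centralizer ({f i} : Set (T i))).index) * ∏ i, Nat.card (centralizer ({f i} : Set (T i))) =
      Nat.card (∀ i, T i) := by
    rw [← Finset.prod_mul_distrib, Nat.card_pi]
    exact Finset.prod_congr rfl fun i _ => (centralizer ({f i} : Set (T i))).index_mul_card
  have h4 : 0 < Nat.card (centralizer ({f} : Set (∀ i, T i))) := Nat.card_pos
  apply Nat.eq_of_mul_eq_mul_right h4
  rw [h2, ← h3, h1]

/-- index of the centraliser in a subgroup -/
theorem index_centralizer_subgroup {Q : Type*} [Group Q] (N : Subgroup Q) (x : N) :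
    (centralizer ({x} : Set N)).index = (centralizer ({(x : Q)} : Set Q)).relIndex N := by
  show _ = ((centralizer ({(x : Q)} : Set Q)).subgroupOf N).index
  congr 1
  ext y
  rw [mem_subgroupOf, mem_centralizer_singleton_iff, mem_centralizer_singleton_iff]
  exact Subtype.ext_iff

theorem index_centralizer_equiv {G H : Type*} [Group G] [Group H] (e : G ≃* H) (x : G) :
    (centralizer ({x} : Set G)).index = (centralizer ({e x} : Set H)).index := by
  have h1 : (centralizer ({e x} : Set H)) = (centralizer ({x} : Set G)).map (e : G →* H) := by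
    ext y
    rw [mem_centralizer_singleton_iff, mem_map]
    constructor
    · intro h
      refine ⟨e.symm y, ?_, by simp⟩
      rw [mem_centralizer_singleton_iff]
      apply e.injective
      simpa using h
    · rintro ⟨z, hz, rfl⟩
      rw [mem_centralizer_singleton_iff] at hz
      have := congrArg e hz
      simpa using this
  rw [h1, index_map_equiv]

variable {Q : Type u} [Group Q] [Finite Q]

/-- the number of conjugates of a factor -/
theorem index_normalizer_le {N : Subgroup Q} [N.Normal] {k : ℕ} (T : Fin k → Subgroup Q) (hTN : ∀ i, T i ≤ N)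
    (hTs : ∀ i, IsSimpleGroup (T i)) (hTna : ∀ i, ¬ ∀ a b : T i, a * b = b * a)
    (hNT : ∀ i, N ≤ normalizer (T i : Set Q)) (hsup : ⨆ i, T i = N) (i0 : Fin k) :
    (normalizer (T i0 : Set Q)).index ≤ k := by
  classical
  have key : ∀ g : Q, ∃ j, (T i0).map (MulAut.conj g).toMonoidHom = T j := by
    intro g
    by_contra hcon
    push Not at hcon
    set A := (T i0).map (MulAut.conj g).toMonoidHom with hA
    have hNA : N ≤ normalizer (A : Set Q) := Cfsg.Agent.Lib.MinNormal.le_normalizer_map_conj (hNT i0) g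
    have hAN : A ≤ N := by
      rw [← Cfsg.Agent.Lib.MinNormal.map_conj_normal g N]
      exact map_mono (hTN i0)
    let e : T i0 ≃* A := (T i0).equivMapOfInjective _ (MulAut.conj g).injective
    have hs0 := hTs i0
    have hAs : IsSimpleGroup A := e.symm.isSimpleGroup
    have hcomm : ∀ j, ∀ a ∈ A, ∀ b ∈ T j, Commute a b := by
      intro j a ha b hb
      refine Cfsg.Agent.Lib.MinNormal.commute_of_disjoint (hAN.trans (hNT j)) ((hTN j).trans hNA) ?_ ha hb
      rw [disjoint_iff]
      by_contra h
      exact hcon j (eq_of_inf_ne_bot hAN (hTN j) hNA (hNT j) hAs (hTs j) h)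
    have h1 : N ≤ centralizer (A : Set Q) := by
      rw [← hsup, iSup_le_iff]
      intro j b hb
      rw [mem_centralizer_iff]
      intro a ha
      exact hcomm j a ha b hb
    have h2 : ∀ a b : A, a * b = b * a := by
      intro a b
      have := mem_centralizer_iff.1 (h1 (hAN b.2)) a a.2
      exact Subtype.ext this
    apply hTna i0
    intro a b
    apply e.injective
    rw [map_mul, map_mul, h2]
  choose f hf using key
  -- the map on cosets
  have hinj : ∀ g h : Q, f g = f h → g⁻¹ * h ∈ normalizer (T i0 : Set Q) := by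
    intro g h hgh
    have h1 := hf g
    rw [hgh, ← hf h] at h1
    apply mem_normalizer_iff_map_conj_eq.2
    have h2 : (T i0).map (MulAut.conj (g⁻¹ * h)).toMonoidHom =
        ((T i0).map (MulAut.conj h).toMonoidHom).map (MulAut.conj g⁻¹).toMonoidHom := by
      rw [Cfsg.Agent.Lib.MinNormal.map_conj_map_conj]
    rw [← h1, Cfsg.Agent.Lib.MinNormal.map_conj_map_conj, inv_mul_cancel,
      Cfsg.Agent.Lib.MinNormal.map_conj_one] at h2
    exact h2
  have : Nat.card (Q ⧸ normalizer (T i0 : Set Q)) ≤ Nat.card (Fin k) := by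
    apply Nat.card_le_card_of_injective (fun x : Q ⧸ normalizer (T i0 : Set Q) => f x.out)
    intro x y hxy
    have h1 := hinj _ _ hxy
    rw [← QuotientGroup.out_eq' x, ← QuotientGroup.out_eq' y]
    exact QuotientGroup.eq.2 h1
  rwa [Nat.card_fin, ← index_eq_card] at this

/-- **The bound.** -/
theorem two_pow_le {M : ℕ} (hM : 0 < M) (hdvd : ∀ x : Q, cs x ∣ M)
    (hS : ∀ (X : Type u) [Group X] [Finite X] [IsSimpleGroup X], Cfsg.IsKnownSimple' X)
    {N : Subgroup Q} [N.Normal] {k : ℕ} (T : Fin k → Subgroup Q) (hTN : ∀ i, T i ≤ N)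
    (hTs : ∀ i, IsSimpleGroup (T i)) (hTna : ∀ i, ¬ ∀ a b : T i, a * b = b * a)
    (hNT : ∀ i, N ≤ normalizer (T i : Set Q))
    (hconj : ∀ i j, ∃ g : Q, T j = (T i).map (MulAut.conj g).toMonoidHom)
    (hcomm : ∀ i j, i ≠ j → ∀ x ∈ T i, ∀ y ∈ T j, Commute x y) (hind : iSupIndep T) (hsup : ⨆ i, T i = N)
    (i0 : Fin k) : 2 ^ ((normalizer (T i0 : Set Q)).index * Nat.card (Cfsg.Out (T i0))) ≤ M ^ 3 := by
  have hk := index_normalizer_le T hTN hTs hTna hNT hsup i0
  have hout : ∀ i, Nat.card (Cfsg.Out (T i)) = Nat.card (Cfsg.Out (T i0)) := by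
    intro i
    obtain ⟨g, hg⟩ := hconj i0 i
    exact Cfsg.Agent.H934.OutB.card_out_congr
      (((T i0).equivMapOfInjective _ (MulAut.conj g).injective).trans (MulEquiv.subgroupCongr hg.symm)).symm
  have hx : ∀ i, ∃ x : T i, 2 ^ Nat.card (Cfsg.Out (T i)) ≤ (centralizer ({x} : Set (T i))).index ^ 3 := by
    intro i
    have := hTs i
    have hna : ¬ IsMulCommutative (T i) := fun h => hTna i fun a b => h.is_comm.comm a b
    obtain ⟨x, hx1⟩ := exists_ne (1 : T i)
    refine ⟨x, Cfsg.Agent.H934.OutAll.bd hna (hS _) _ ?_⟩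
    intro htop
    have h1 : x ∈ center (T i) := by
      rw [mem_center_iff]
      intro y
      have : y ∈ centralizer ({x} : Set (T i)) := htop ▸ mem_top y
      exact mem_centralizer_singleton_iff.1 this
    rcases (inferInstance : (center (T i)).Normal).eq_bot_or_eq_top with h2 | h2
    · rw [h2, mem_bot] at h1
      exact hx1 h1
    · apply hTna i
      intro a b
      have h3 : a ∈ center (T i) := h2 ▸ mem_top a
      exact (mem_center_iff.1 h3 b).symm
  choose x hx using hx
  obtain ⟨e⟩ := Cfsg.Agent.Lib.MinNormal.mulEquiv_pi_of_iSupIndep T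
    (fun i j hij a b ha hb => hcomm i j hij a ha b hb) hind hsup
  let u : N := e.symm x
  have h1 : ∏ i, (centralizer ({x i} : Set (T i))).index ∣ M := by
    rw [← index_centralizer_pi x]
    have h2 := index_centralizer_equiv e u
    rw [show e u = x from e.apply_symm_apply x] at h2
    rw [← h2, index_centralizer_subgroup]
    exact (relIndex_dvd_index_right _ _).trans (hdvd u)
  have h2 : 2 ^ (k * Nat.card (Cfsg.Out (T i0))) ≤ M ^ 3 := by
    calc 2 ^ (k * Nat.card (Cfsg.Out (T i0))) = ∏ i : Fin k, 2 ^ Nat.card (Cfsg.Out (T i)) := by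
          rw [Finset.prod_congr rfl fun i _ => by rw [hout i], Finset.prod_const, Finset.card_univ, Fintype.card_fin,
            ← pow_mul, mul_comm]
      _ ≤ ∏ i : Fin k, (centralizer ({x i} : Set (T i))).index ^ 3 := Finset.prod_le_prod' fun i _ => hx i
      _ = (∏ i, (centralizer ({x i} : Set (T i))).index) ^ 3 := Finset.prod_pow _ _ _
      _ ≤ M ^ 3 := Nat.pow_le_pow_left (Nat.le_of_dvd hM h1) 3
  exact (Nat.pow_le_pow_right (by norm_num) (Nat.mul_le_mul_right _ hk)).trans h2

end Cfsg.Agent.H310.TC7
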