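import Mathlib
import Cfsg.Agent.H310.TC7.NoAb
import Cfsg.Agent.H310.TC7.Prod

/-!
# The structure theorem for groups with the class sizes of `E₇(q)`, `q ≥ 4` (helper310, for S3582)

`struct` : `Z(G) = 1` and `Types G p M m t` imply that `G` is a `p`-group extended by an almost simple group.
-/

set_option autoImplicit false

namespace Cfsg.Agent.H310.TC7

open Subgroup Cfsg.Agent.H137.TC7

universe u

section

variable {Q : Type u} [Group Q] [Finite Q]

theorem three_le (hs : IsSimpleGroup Q) (hna : ¬ ∀ a b : Q, a * b = b * a) : 3 ≤ (Nat.card Q).primeFactors.card := by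
  by_contra hlt
  have hsol := SolvableStructure.HallConverse.isSolvable_of_no_three_primes (G := Q) (by omega)
  exact hna (IsSimpleGroup.comm_iff_isSolvable.2 hsol)

theorem exists_minimal_le (C : Subgroup Q) [C.Normal] (hC : C ≠ ⊥) : ∃ N : Subgroup Q, N.Normal ∧ N ≠ ⊥ ∧ N ≤ C ∧
    ∀ M : Subgroup Q, M.Normal → M ≤ N → M = ⊥ ∨ M = N := by
  obtain ⟨N, hN⟩ := (Set.toFinite {N : Subgroup Q | N.Normal ∧ N ≠ ⊥ ∧ N ≤ C}).exists_minimal
    ⟨C, inferInstance, hC, le_rfl⟩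
  refine ⟨N, hN.1.1, hN.1.2.1, hN.1.2.2, fun M hM hMN => ?_⟩
  by_cases h : M = ⊥
  · exact Or.inl h
  · exact Or.inr (le_antisymm hMN (hN.2 ⟨hM, h, hMN.trans hN.1.2.2⟩ hMN))

/-- the decomposition of a minimal normal subgroup -/
structure Dec (N : Subgroup Q) (k : ℕ) (T : Fin k → Subgroup Q) : Prop where
  pos : 0 < k
  le : ∀ i, T i ≤ N
  simple : ∀ i, IsSimpleGroup (T i)
  na : ∀ i, ¬ ∀ a b : T i, a * b = b * a
  nor : ∀ i, N ≤ normalizer (T i : Set Q)
  conj : ∀ i j, ∃ g : Q, T j = (T i).map (MulAut.conj g).toMonoidHom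
  comm : ∀ i j, i ≠ j → ∀ x ∈ T i, ∀ y ∈ T j, Commute x y
  ind : iSupIndep T
  sup : ⨆ i, T i = N

theorem exists_dec (hab : ∀ ℓ : ℕ, ℓ.Prime → ∀ V : Subgroup Q, V.Normal → IsPGroup ℓ V → V = ⊥) (N : Subgroup Q)
    [hN : N.Normal] (hN1 : N ≠ ⊥) (hmin : ∀ M : Subgroup Q, M.Normal → M ≤ N → M = ⊥ ∨ M = N) :
    ∃ k T, Dec N k T := by
  obtain ⟨k, T, hk, hTN, hTs, hnor, hconj, hcomm, -, hind, hsup⟩ :=
    Cfsg.Agent.Lib.MinNormal.exists_internal_decomposition N hN1 hmin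
  refine ⟨k, T, hk, hTN, hTs, ?_, hnor, hconj, hcomm, hind, hsup⟩
  intro i hi
  have hall : ∀ j, ∀ x ∈ T j, ∀ y ∈ T j, Commute x y := by
    intro j x hx y hy
    obtain ⟨g, hg⟩ := hconj i j
    rw [hg] at hx hy
    obtain ⟨a, ha, rfl⟩ := hx
    obtain ⟨b, hb, rfl⟩ := hy
    have h1 : Commute a b := congrArg Subtype.val (hi ⟨a, ha⟩ ⟨b, hb⟩)
    exact h1.map _
  have h1 : ∀ j, N ≤ centralizer (T j : Set Q) := by
    intro j
    rw [← hsup, iSup_le_iff]
    intro j' b hb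
    rw [mem_centralizer_iff]
    intro a ha
    by_cases hjj : j = j'
    · subst hjj; exact hall j a ha b hb
    · exact hcomm j j' hjj a ha b hb
  have h2 : N ≤ centralizer (N : Set Q) := by
    nth_rewrite 1 [← hsup]
    rw [iSup_le_iff]
    intro j b hb
    rw [mem_centralizer_iff]
    intro a ha
    exact (mem_centralizer_iff.1 (h1 j ha) b hb).symm
  obtain ⟨r, hr, hrN⟩ := Nat.exists_prime_and_dvd (n := Nat.card N) (fun h => hN1 (Subgroup.card_eq_one.1 h))
  rcases Cfsg.Agent.H364.minimal_normal_cases N hN1 hmin hr hrN with hpg | ⟨k', S', hk', hSN, -, hSna, -⟩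
  · exact hN1 (hab r hr N hN hpg)
  · apply hSna ⟨0, hk'⟩
    intro a b
    have := mem_centralizer_iff.1 (h2 (hSN _ b.2)) a (hSN _ a.2)
    exact Subtype.ext this

theorem Dec.eq_sup {N : Subgroup Q} {T : Fin 1 → Subgroup Q} (h : Dec N 1 T) : T 0 = N := by
  rw [← h.sup]
  exact (iSup_unique (f := T)).symm

/-- **The structure of `Q`.** -/
theorem Ty.struct [Nontrivial Q] {p M : ℕ} {m : Fin 4 → ℕ} (h : Ty Q p M m)
    (hbig : ∀ i j, i ≠ j → 200 * Nat.log 2 M < m i * m j)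
    (hS : ∀ (X : Type u) [Group X] [Finite X] [IsSimpleGroup X], Cfsg.IsKnownSimple' X)
    (hab : ∀ ℓ : ℕ, ℓ.Prime → ∀ V : Subgroup Q, V.Normal → IsPGroup ℓ V → V = ⊥) :
    ∃ S : Subgroup Q, S.Normal ∧ IsSimpleGroup S ∧ (¬ ∀ a b : S, a * b = b * a) ∧
      centralizer (S : Set Q) = ⊥ := by
  obtain ⟨N, hN, hN1, -, hmin⟩ := exists_minimal_le (⊤ : Subgroup Q) top_ne_bot
  obtain ⟨k, T, hT⟩ := exists_dec hab N hN1 hmin
  let i0 : Fin k := ⟨0, hT.pos⟩
  have hbd := two_pow_le h.pos h.dvd hS T hT.le hT.simple hT.na hT.nor hT.conj hT.comm hT.ind hT.sup i0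
  -- no pair
  have hno : ¬ ∃ i j, i ≠ j ∧ m i * m j ∣ (normalizer (T i0 : Set Q)).index * Nat.card (Cfsg.Out (T i0)) := by
    rintro ⟨i, j, hij, hd⟩
    have h1 := hbig i j hij
    have h2 : 0 < (normalizer (T i0 : Set Q)).index * Nat.card (Cfsg.Out (T i0)) :=
      Nat.mul_pos (Nat.pos_of_ne_zero index_ne_zero_of_finite) Nat.card_pos
    have h3 := Nat.le_of_dvd h2 hd
    have h4 : M ^ 3 < 2 ^ (3 * (Nat.log 2 M + 1)) := by
      rw [mul_comm 3, pow_mul]
      exact Nat.pow_lt_pow_left (Nat.lt_pow_succ_log_self (by norm_num) M) (by norm_num)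
    have h5 := (Nat.pow_lt_pow_iff_right (by norm_num)).1 (hbd.trans_lt h4)
    have h6 : Nat.log 2 M = 0 := by omega
    have h7 : M = 1 := by
      rcases Nat.log_eq_zero_iff.1 h6 with h | h
      · have := h.le
        have := Ty.pos ‹Ty Q p M m›
        omega
      · omega
    rw [h7, one_pow] at hbd
    have h8 : (normalizer (T i0 : Set Q)).index * Nat.card (Cfsg.Out (T i0)) = 0 := by
      by_contra h9
      have := Nat.one_lt_two_pow h9
      omega
    omega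
  have hCA : ∀ x ∈ T i0, x ≠ 1 → centralizer ({x} : Set Q) ≤ normalizer (T i0 : Set Q) :=
    fun x hx hx1 => centralizer_le_normalizer (hT.le i0) (hT.nor i0) (hT.simple i0) hx hx1
  have hk : k = 1 := by
    by_contra hk
    have h1k : 1 < k := by have := hT.pos; omega
    let i1 : Fin k := ⟨1, h1k⟩
    have h01 : i0 ≠ i1 := by intro h; simp [i0, i1] at h
    apply hno
    refine h.pair (B := T i1) (three_le (hT.simple i0) (hT.na i0)) (three_le (hT.simple i1) (hT.na i1))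
      (fun a ha b hb => hT.comm i0 i1 h01 a ha b hb) hCA fun y hy hy1 => ?_
    refine ⟨N ⊓ centralizer (T i1 : Set Q), le_inf (hT.le i0) ?_, inf_le_left.trans (hT.nor i0), ?_, ?_⟩
    · intro a ha
      rw [mem_centralizer_iff]
      intro b hb
      exact (hT.comm i0 i1 h01 a ha b hb).symm
    · intro z hz
      rw [mem_centralizer_singleton_iff]
      exact (mem_centralizer_iff.1 (mem_inf.1 hz).2 y hy).symm
    · have h2 := centralizer_le_normalizer (hT.le i1) (hT.nor i1) (hT.simple i1) hy hy1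
      refine h2.trans (Cfsg.Agent.Lib.MinNormal.le_normalizer_inf ?_ ?_)
      · have h3 : normalizer (N : Set Q) = ⊤ := normalizer_eq_top N
        rw [h3]; exact le_top
      · intro g hg
        rw [mem_normalizer_iff]
        have key : ∀ g ∈ normalizer (T i1 : Set Q), ∀ z ∈ centralizer (T i1 : Set Q),
            g * z * g⁻¹ ∈ centralizer (T i1 : Set Q) := by
          intro g hg z hz
          rw [mem_centralizer_iff] at hz ⊢
          intro t ht
          have h3 : g⁻¹ * t * g ∈ T i1 := by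
            have := (mem_normalizer_iff.1 (inv_mem hg) t).1 ht
            simpa using this
          have h4 := hz _ h3
          calc t * (g * z * g⁻¹) = g * ((g⁻¹ * t * g) * z) * g⁻¹ := by group
            _ = g * (z * (g⁻¹ * t * g)) * g⁻¹ := by rw [h4]
            _ = _ := by group
        intro z
        refine ⟨key g hg z, fun hz => ?_⟩
        have := key g⁻¹ (inv_mem hg) _ hz
        simpa [mul_assoc] using this
  subst hk
  have hTN : T 0 = N := hT.eq_sup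
  refine ⟨N, hN, hTN ▸ hT.simple 0, hTN ▸ hT.na 0, ?_⟩
  by_contra hC
  obtain ⟨N2, hN2, hN21, hN2C, hmin2⟩ := exists_minimal_le (centralizer (N : Set Q)) hC
  obtain ⟨k2, T2, hT2⟩ := exists_dec hab N2 hN21 hmin2
  let j0 : Fin k2 := ⟨0, hT2.pos⟩
  apply hno
  have hcom : ∀ a ∈ N, ∀ b ∈ T2 j0, Commute a b := fun a ha b hb =>
    mem_centralizer_iff.1 (hN2C (hT2.le j0 hb)) a ha
  refine h.pair (B := T2 j0) (three_le (hT.simple i0) (hT.na i0)) (three_le (hT2.simple j0) (hT2.na j0))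
    (fun a ha b hb => hcom a (hT.le i0 ha) b hb) hCA fun y hy hy1 => ?_
  refine ⟨N, hT.le i0, hT.nor i0, ?_, ?_⟩
  · intro a ha
    rw [mem_centralizer_singleton_iff]
    exact hcom a ha y hy
  · rw [normalizer_eq_top]; exact le_top

end

/-- three of the four `m i` divide each class size -/
theorem Types.three {G : Type*} [Group G] {p M : ℕ} {m t : Fin 4 → ℕ} (h : Types G p M m t) {g : G} (hg : g ≠ 1) :
    ∃ i0, ∀ i, i ≠ i0 → m i ∣ cs g := by
  by_cases h1 : ∃ i, (m i).Coprime (cs g)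
  · obtain ⟨i0, hi0⟩ := h1
    refine ⟨i0, fun i hi => ?_⟩
    rcases h.typ g hg i with h2 | h2
    · exact h2
    · exact absurd (h.one_type g hg i i0 h2 hi0) hi
  · push Not at h1
    refine ⟨0, fun i _ => ?_⟩
    rcases h.typ g hg i with h2 | h2
    · exact h2
    · exact absurd h2 (h1 i)

/-- the product of the three -/
theorem prod_dvd {m : Fin 4 → ℕ} (hc : ∀ i j, i ≠ j → (m i).Coprime (m j)) {i0 : Fin 4} {n : ℕ}
    (h : ∀ i, i ≠ i0 → m i ∣ n) : ∃ c, c * m i0 = m 0 * m 1 * m 2 * m 3 ∧ c ∣ n := by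
  refine ⟨∏ i ∈ Finset.univ.erase i0, m i, ?_, ?_⟩
  · rw [Finset.prod_erase_mul _ _ (Finset.mem_univ _), Fin.prod_univ_four]
  · apply Finset.prod_dvd_of_isRelPrime
    · intro i _ j _ hij
      exact Nat.coprime_iff_isRelPrime.1 (hc i j hij)
    · intro i hi
      exact h i (Finset.ne_of_mem_erase hi)

variable {G : Type u} [Group G] [Finite G]

/-- `M ∣ |G|` -/
theorem Types.dvd_card {p M : ℕ} {m t : Fin 4 → ℕ} (h : Types G p M m t) : M ∣ Nat.card G := by
  obtain ⟨g, -, hg⟩ := h.ex 0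
  obtain ⟨g', -, hg'⟩ := h.ex 2
  have h1 : cs g ∣ Nat.card G := index_dvd_card _
  have h2 : cs g' ∣ Nat.card G := index_dvd_card _
  -- `M ∣ |G| t₀` and `M ∣ |G| t₂`
  have h3 : M ∣ Nat.card G * t 0 := by rw [← hg]; exact Nat.mul_dvd_mul_right h1 _
  have h4 : M ∣ Nat.card G * t 2 := by rw [← hg']; exact Nat.mul_dvd_mul_right h2 _
  have h5 := Nat.dvd_gcd h3 h4
  rwa [Nat.gcd_mul_left, Nat.Coprime.gcd_eq_one h.t_coprime, mul_one] at h5

/-- **The structure of `G`.** -/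
theorem struct {p M : ℕ} {m t : Fin 4 → ℕ} (h : Types G p M m t)
    (hS : ∀ (X : Type u) [Group X] [Finite X] [IsSimpleGroup X], Cfsg.IsKnownSimple' X) :
    ∃ (K : Subgroup G) (_ : K.Normal), IsPGroup p K ∧
      (∀ L : Subgroup (G ⧸ K), L.Normal → IsPGroup p L → L = ⊥) ∧
      ∃ S : Subgroup (G ⧸ K), S.Normal ∧ IsSimpleGroup S ∧
        (¬ ∀ a b : S, a * b = b * a) ∧ centralizer (S : Set (G ⧸ K)) = ⊥ := by
  have hp := h.prime
  have := Fact.mk hp
  -- the largest normal `p`-subgroup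
  obtain ⟨K, hKmax⟩ := (Set.toFinite {K : Subgroup G | K.Normal ∧ IsPGroup p K}).exists_maximal
    ⟨⊥, inferInstance, IsPGroup.of_bot⟩
  have hKn : K.Normal := hKmax.1.1
  have hKp : IsPGroup p K := hKmax.1.2
  have hcore : ∀ L : Subgroup (G ⧸ K), L.Normal → IsPGroup p L → L = ⊥ := by
    intro L hL hLp
    have h1 : IsPGroup p (L.comap (QuotientGroup.mk' K)) := by
      refine hLp.comap_of_ker_isPGroup _ ?_
      rwa [QuotientGroup.ker_mk']
    have h2 : K ≤ L.comap (QuotientGroup.mk' K) := by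
      intro x hx
      rw [mem_comap]
      have : QuotientGroup.mk' K x = 1 := (QuotientGroup.eq_one_iff x).2 hx
      rw [this]; exact one_mem _
    have h3 := hKmax.2 ⟨hL.comap _, h1⟩ h2
    rw [eq_bot_iff]
    intro x hx
    obtain ⟨y, rfl⟩ := QuotientGroup.mk_surjective x
    rw [mem_bot]
    exact (QuotientGroup.eq_one_iff y).2 (h3 hx)
  refine ⟨K, hKn, hKp, hcore, ?_⟩
  have hdvd : ∀ x : G ⧸ K, cs x ∣ M := by
    intro x
    obtain ⟨g, rfl⟩ := QuotientGroup.mk_surjective x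
    exact (cs_quotient_dvd K g).trans (h.dvd g)
  -- the types
  have htyp : ∀ x : G ⧸ K, x ≠ 1 → ∀ ℓ k : ℕ, ℓ.Prime → ℓ ≠ p → orderOf x = ℓ ^ k →
      ∃ i0, ∀ i, i ≠ i0 → m i ∣ cs x := by
    intro x hx ℓ k hℓ hℓp hxo
    obtain ⟨g, hgx, c, hc⟩ := exists_cs hp hKp hℓ hℓp hxo
    have hg1 : g ≠ 1 := by rintro rfl; exact hx (by rw [← hgx]; rfl)
    obtain ⟨i0, hi0⟩ := Types.three h hg1
    refine ⟨i0, fun i hi => ?_⟩
    have h1 := hi0 i hi
    rw [hc] at h1
    exact ((h.coprime_p i).pow_right c).dvd_of_dvd_mul_left h1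
  have hTy : Ty (G ⧸ K) p M m :=
    { pos := h.pos, coprime := h.coprime, full := h.full, dvd := hdvd
      typ := fun x hx ℓ hℓ hℓp ho => htyp x hx ℓ 1 hℓ hℓp (by rw [pow_one]; exact ho) }
  have hab : ∀ ℓ : ℕ, ℓ.Prime → ∀ V : Subgroup (G ⧸ K), V.Normal → IsPGroup ℓ V → V = ⊥ := by
    intro ℓ hℓ V hV hVp
    by_cases hℓp : ℓ = p
    · subst hℓp
      exact hcore V hV hVp
    have := Fact.mk hℓ
    refine normal_eq_bot hℓ h.pos.ne' hdvd V hVp fun v hv hv1 => ?_
    obtain ⟨k, hk⟩ := IsPGroup.iff_orderOf.1 hVp ⟨v, hv⟩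
    rw [Subgroup.orderOf_mk] at hk
    obtain ⟨i0, hi0⟩ := htyp v hv1 ℓ k hℓ hℓp hk
    obtain ⟨c, hc1, hc2⟩ := prod_dvd h.coprime hi0
    have h1 := h.big3 ℓ hℓ hℓp i0
    rw [← hc1] at h1
    have h2 : 2 * ordProj[ℓ] M < c := lt_of_mul_lt_mul_right h1 (Nat.zero_le _)
    exact h2.trans_le (Nat.le_of_dvd (Nat.pos_of_ne_zero index_ne_zero_of_finite) hc2)
  have hnt : Nontrivial (G ⧸ K) := by
    rw [← Finite.one_lt_card_iff_nontrivial]
    by_contra hle
    have h1 : Nat.card (G ⧸ K) = 1 := le_antisymm (not_lt.1 hle) Nat.card_pos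
    have h2 : K.index = 1 := by rw [index_eq_card, h1]
    obtain ⟨c, hc⟩ := IsPGroup.iff_card.1 hKp
    have h3 : Nat.card G = p ^ c := by rw [← K.card_mul_index, h2, mul_one, hc]
    have h4 : m 0 ∣ p ^ c := by
      rw [← h3]
      exact ((h.dvd_t 0).trans (h.t_dvd 0)).trans (Types.dvd_card h)
    have h5 : m 0 = 1 := Nat.Coprime.eq_one_of_dvd ((h.coprime_p 0).pow_right c) h4
    exact (h.one_lt 0).ne' h5
  exact Ty.struct hTy h.big2 hS hab

end Cfsg.Agent.H310.TC7
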