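import Mathlib
import Cfsg.Agent.H310.TC7.Struct

/-!
# The normal `p`-subgroup is trivial (helper310, for S3582)
-/

set_option autoImplicit false

namespace Cfsg.Agent.H310.TC7

open Subgroup Cfsg.Agent.H137.TC7

universe u

/-- `|Q : S|` divides `|Out S|` for `S` normal with trivial centraliser. -/
theorem index_dvd_card_out {Q : Type*} [Group Q] [Finite Q] (S : Subgroup Q) [S.Normal]
    (hc : centralizer (S : Set Q) = ⊥) : S.index ∣ Nat.card (Cfsg.Out S) := by
  let φ : Q →* MulAut S := MulAut.conjNormal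
  have h1 : (Cfsg.Inn S).comap φ = S := by
    ext q
    rw [mem_comap]
    constructor
    · rintro ⟨s, hs⟩
      have h2 : (s : Q)⁻¹ * q ∈ centralizer (S : Set Q) := by
        rw [mem_centralizer_iff]
        intro a ha
        have h3 := congrArg Subtype.val (DFunLike.congr_fun hs ⟨a, ha⟩)
        have h4 : (s : Q) * a * (s : Q)⁻¹ = q * a * q⁻¹ := h3
        calc a * ((s : Q)⁻¹ * q) = (s : Q)⁻¹ * ((s : Q) * a * (s : Q)⁻¹) * q := by group
          _ = (s : Q)⁻¹ * (q * a * q⁻¹) * q := by rw [h4]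
          _ = (s : Q)⁻¹ * q * a := by group
      rw [hc, mem_bot] at h2
      have h3 : q = s := by
        rw [← mul_one (s : Q), ← h2]; group
      rw [h3]; exact s.2
    · intro hq
      exact ⟨⟨q, hq⟩, MulEquiv.ext fun b => Subtype.ext rfl⟩
  have h2 : (Cfsg.Inn S).relIndex φ.range = S.index := by
    rw [← index_comap, h1]
  rw [← h2]
  have h7 : (Cfsg.Inn S).relIndex φ.range ∣ (Cfsg.Inn S).index := relIndex_dvd_index_of_normal _ _
  rwa [index_eq_card] at h7

variable {G : Type u} [Group G] [Finite G]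

theorem out_lt {Q : Type u} [Group Q] [Finite Q] {M : ℕ} (hM : 0 < M) (hdvd : ∀ x : Q, cs x ∣ M)
    (hS : ∀ (X : Type u) [Group X] [Finite X] [IsSimpleGroup X], Cfsg.IsKnownSimple' X)
    (S : Subgroup Q) [S.Normal] (hs : IsSimpleGroup S) (hna : ¬ ∀ a b : S, a * b = b * a) :
    2 ^ Nat.card (Cfsg.Out S) ≤ M ^ 3 := by
  obtain ⟨x, hx1⟩ := exists_ne (1 : S)
  have hna' : ¬ IsMulCommutative S := fun h => hna fun a b => h.is_comm.comm a b
  have h1 := Cfsg.Agent.H934.OutAll.bd hna' (hS _) (centralizer ({x} : Set S)) (by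
    intro htop
    have h1 : x ∈ center S := by
      rw [mem_center_iff]
      intro y
      have : y ∈ centralizer ({x} : Set S) := htop ▸ mem_top y
      exact mem_centralizer_singleton_iff.1 this
    rcases (inferInstance : (center S).Normal).eq_bot_or_eq_top with h2 | h2
    · rw [h2, mem_bot] at h1
      exact hx1 h1
    · apply hna
      intro a b
      have h3 : a ∈ center S := h2 ▸ mem_top a
      exact (mem_center_iff.1 h3 b).symm)
  refine h1.trans (Nat.pow_le_pow_left (Nat.le_of_dvd hM ?_) 3)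
  rw [index_centralizer_subgroup]
  exact (relIndex_dvd_index_right _ _).trans (hdvd x)

theorem lt_200 {M o n : ℕ} (hM : 0 < M) (h : 2 ^ o ≤ M ^ 3) (ho : 0 < o) (hn : 200 * Nat.log 2 M < n) : o < n := by
  by_contra hle
  push Not at hle
  have h4 : M ^ 3 < 2 ^ (3 * (Nat.log 2 M + 1)) := by
    rw [mul_comm 3, pow_mul]
    exact Nat.pow_lt_pow_left (Nat.lt_pow_succ_log_self (by norm_num) M) (by norm_num)
  have h5 := (Nat.pow_lt_pow_iff_right (by norm_num)).1 (h.trans_lt h4)
  have h6 : Nat.log 2 M = 0 := by omega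
  have h7 : M = 1 := by
    rcases Nat.log_eq_zero_iff.1 h6 with h | h
    · have := h.le
      omega
    · omega
  rw [h7, one_pow] at h
  have := Nat.one_lt_two_pow ho.ne'
  omega

/-- **The normal `p`-subgroup is trivial**, if some `x ∈ S` has class size (in `S`) with the full `p`-part. -/
theorem kernel_eq_bot {p M : ℕ} {m t : Fin 4 → ℕ} (h : Types G p M m t)
    (hS : ∀ (X : Type u) [Group X] [Finite X] [IsSimpleGroup X], Cfsg.IsKnownSimple' X)
    (K : Subgroup G) [K.Normal] (hK : IsPGroup p K) (S : Subgroup (G ⧸ K)) [S.Normal] (hs : IsSimpleGroup S)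
    (hna : ¬ ∀ a b : S, a * b = b * a) (hc : centralizer (S : Set (G ⧸ K)) = ⊥)
    {x : G ⧸ K} (hxS : x ∈ S) (hx1 : x ≠ 1)
    (hx : ordProj[p] M ∣ (centralizer ({x} : Set (G ⧸ K))).relIndex S) : K = ⊥ := by
  have hp := h.prime
  have := Fact.mk hp
  obtain ⟨e, he⟩ := IsPGroup.iff_card.1 hK
  have hdvd : ∀ x : G ⧸ K, cs x ∣ M := by
    intro x
    obtain ⟨g, rfl⟩ := QuotientGroup.mk_surjective x
    exact (cs_quotient_dvd K g).trans (h.dvd g)
  -- lifts of `x` centralise `K`
  have hcsx : ordProj[p] M ∣ cs x := hx.trans (relIndex_dvd_index_right _ _)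
  have hlift : ∀ g : G, (g : G ⧸ K) = x → K ≤ centralizer ({g} : Set G) := by
    intro g hg
    have h1 := index_eq_relIndex_mul (centralizer ({g} : Set G)) K
    obtain ⟨d, -, hd⟩ : ∃ d ≤ e, (centralizer ({g} : Set G)).relIndex K = p ^ d := by
      rw [← Nat.dvd_prime_pow hp, ← he]
      exact relIndex_dvd_card _ _
    have h2 : cs x ∣ (centralizer ({g} : Set G) ⊔ K).index := by
      have h3 : (centralizer ({g} : Set G) ⊔ K).map (QuotientGroup.mk' K) ≤ centralizer ({x} : Set (G ⧸ K)) := by
        rw [Subgroup.map_le_iff_le_comap, sup_le_iff]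
        constructor
        · intro c hc
          rw [mem_centralizer_singleton_iff] at hc
          rw [mem_comap, mem_centralizer_singleton_iff, ← hg]
          show (c : G ⧸ K) * (g : G ⧸ K) = (g : G ⧸ K) * (c : G ⧸ K)
          rw [← QuotientGroup.mk_mul, hc, QuotientGroup.mk_mul]
        · intro c hc
          rw [mem_comap]
          have : QuotientGroup.mk' K c = 1 := (QuotientGroup.eq_one_iff c).2 hc
          rw [this]; exact one_mem _
      exact (index_dvd_of_le h3).trans (index_map_dvd _ (QuotientGroup.mk'_surjective K))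
    have h4 : p ^ d * ordProj[p] M ∣ M := by
      refine (Nat.mul_dvd_mul_left _ (hcsx.trans h2)).trans ?_
      rw [← hd, ← h1]
      exact h.dvd g
    have h5 : d = 0 := by
      have h6 : p ^ (d + M.factorization p) ∣ M := by rw [pow_add]; exact h4
      have h7 := (hp.pow_dvd_iff_le_factorization h.pos.ne').1 h6
      omega
    rw [h5, pow_zero] at hd
    exact relIndex_eq_one.1 hd
  -- `C = C_G(K)`
  set C := centralizer (K : Set G) with hC
  have hCn : C.Normal := inferInstance
  obtain ⟨g, hg⟩ := QuotientGroup.mk_surjective x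
  have hgC : g ∈ C := by
    rw [hC, mem_centralizer_iff]
    intro k hk
    exact mem_centralizer_singleton_iff.1 (hlift g hg hk)
  have hSC : S ≤ C.map (QuotientGroup.mk' K) := by
    have hn : (C.map (QuotientGroup.mk' K)).Normal := hCn.map _ (QuotientGroup.mk'_surjective K)
    have hn2 : ((C.map (QuotientGroup.mk' K)).subgroupOf S).Normal := hn.subgroupOf S
    rcases hn2.eq_bot_or_eq_top with h1 | h1
    · exfalso
      have h2 : (⟨x, hxS⟩ : S) ∈ (C.map (QuotientGroup.mk' K)).subgroupOf S :=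
        mem_subgroupOf.2 ⟨g, hgC, hg⟩
      rw [h1, mem_bot] at h2
      exact hx1 (congrArg Subtype.val h2)
    · exact subgroupOf_eq_top.1 h1
  -- suppose `1 ≠ v ∈ K`
  by_contra hK1
  obtain ⟨⟨v, hv⟩, hv1'⟩ := Subgroup.ne_bot_iff_exists_ne_one.1 hK1
  have hv1 : v ≠ 1 := fun h => hv1' (Subtype.ext h)
  have h1 : cs v ∣ C.index := index_dvd_of_le (by
    intro c hc
    rw [mem_centralizer_singleton_iff]
    exact (mem_centralizer_iff.1 hc v hv).symm)
  have h2 : (C ⊔ K).index ∣ Nat.card (Cfsg.Out S) := by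
    have h3 : (C ⊔ K).index = ((C ⊔ K).map (QuotientGroup.mk' K)).index := by
      rw [index_map, QuotientGroup.ker_mk',
        (QuotientGroup.mk' K).range_eq_top_of_surjective (QuotientGroup.mk'_surjective K), index_top, mul_one,
        sup_assoc, sup_idem]
    rw [h3]
    refine (index_dvd_of_le ?_).trans (index_dvd_card_out S hc)
    exact hSC.trans (map_mono le_sup_left)
  obtain ⟨d, -, hd⟩ : ∃ d ≤ e, C.relIndex K = p ^ d := by
    rw [← Nat.dvd_prime_pow hp, ← he]
    exact relIndex_dvd_card _ _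
  have h3 := index_eq_relIndex_mul C K
  obtain ⟨i0, hi0⟩ := Types.three h hv1
  have h4 : ∀ i, i ≠ i0 → m i ∣ Nat.card (Cfsg.Out S) := by
    intro i hi
    refine Nat.dvd_trans ?_ h2
    have h5 := (hi0 i hi).trans h1
    rw [h3, hd] at h5
    exact ((h.coprime_p i).pow_right d).dvd_of_dvd_mul_left h5
  obtain ⟨i, j, hi, hj, hij⟩ : ∃ i j : Fin 4, i ≠ i0 ∧ j ≠ i0 ∧ i ≠ j := by
    revert i0; intro i0 _ _
    fin_cases i0
    · exact ⟨1, 2, by decide, by decide, by decide⟩
    · exact ⟨0, 2, by decide, by decide, by decide⟩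
    · exact ⟨0, 1, by decide, by decide, by decide⟩
    · exact ⟨0, 1, by decide, by decide, by decide⟩
  have h5 := Nat.Coprime.mul_dvd_of_dvd_of_dvd (h.coprime i j hij) (h4 i hi) (h4 j hj)
  have h6 := Nat.le_of_dvd Nat.card_pos h5
  have h7 := lt_200 h.pos (out_lt h.pos hdvd hS S hs hna) Nat.card_pos (h.big2 i j hij)
  omega

end Cfsg.Agent.H310.TC7
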