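import Mathlib
import Cfsg.Agent.H310.TC7.Kernel
import Cfsg.Agent.H902.Facts

/-!
# The setting for the identification of the simple subgroup (helper310, for S3582)
-/

set_option autoImplicit false

namespace Cfsg.Agent.H310.TC7

open Subgroup Cfsg.Agent.H137.TC7 Cfsg.Agent.H902 Cfsg.Agent.H902.Art

universe u

/-- The setting. -/
structure Setting (Q : Type u) [Group Q] (S : Subgroup Q) (p f M : ℕ) (m : Fin 4 → ℕ) : Prop where
  real : Art.Real .E7 p f M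
  q4 : 4 ≤ p ^ f
  lo : ∀ i, (p ^ f) ^ 6 ≤ 10 * m i
  hi : ∀ i, m i ≤ 2 * (p ^ f) ^ 6
  coprime : ∀ i j, i ≠ j → (m i).Coprime (m j)
  big3 : ∀ r : ℕ, r.Prime → r ≠ p → ∀ i, 2 * ordProj[r] M * m i < m 0 * m 1 * m 2 * m 3
  dvd : ∀ x : Q, cs x ∣ M
  typ : ∀ x : Q, ∀ ℓ : ℕ, ℓ.Prime → ℓ ≠ p → orderOf x = ℓ → ∃ i0, ∀ i, i ≠ i0 → m i ∣ cs x
  card : ∃ e, M ∣ p ^ e * Nat.card Q
  normal : S.Normal
  simple : IsSimpleGroup S
  na : ¬ ∀ a b : S, a * b = b * a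
  cent : centralizer (S : Set Q) = ⊥

theorem mul_lower {x y a b : ℕ} (h1 : 15 * x ≤ 16 * a) (h2 : 15 * y ≤ 16 * b) : 225 * (x * y) ≤ 256 * (a * b) := by
  calc 225 * (x * y) = (15 * x) * (15 * y) := by ring
    _ ≤ (16 * a) * (16 * b) := Nat.mul_le_mul h1 h2
    _ = _ := by ring

theorem pow_lower {q : ℕ} (hq : 4 ≤ q) (k : ℕ) (hk : 2 ≤ k) : 15 * q ^ k ≤ 16 * (q ^ k - 1) := by
  have h1 : 4 ^ 2 ≤ q ^ k := (Nat.pow_le_pow_left hq 2).trans (Nat.pow_le_pow_right (by omega) hk)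
  omega

/-- `q ^ 70 ≤ 2 num` -/
theorem num_E7_ge {q : ℕ} (hq : 4 ≤ q) : q ^ 70 ≤ 2 * num .E7 q := by
  have h := Nat.mul_le_mul (Nat.mul_le_mul (Nat.mul_le_mul (Nat.mul_le_mul (Nat.mul_le_mul (Nat.mul_le_mul
      (pow_lower hq 2 (by norm_num)) (pow_lower hq 6 (by norm_num))) (pow_lower hq 8 (by norm_num)))
      (pow_lower hq 10 (by norm_num))) (pow_lower hq 12 (by norm_num))) (pow_lower hq 14 (by norm_num)))
      (pow_lower hq 18 (by norm_num))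
  have e1 : 15 * q ^ 2 * (15 * q ^ 6) * (15 * q ^ 8) * (15 * q ^ 10) * (15 * q ^ 12) * (15 * q ^ 14) * (15 * q ^ 18) =
      170859375 * q ^ 70 := by ring
  have e2 : 16 * (q ^ 2 - 1) * (16 * (q ^ 6 - 1)) * (16 * (q ^ 8 - 1)) * (16 * (q ^ 10 - 1)) * (16 * (q ^ 12 - 1)) *
      (16 * (q ^ 14 - 1)) * (16 * (q ^ 18 - 1)) = 268435456 * num .E7 q := by
    show _ = 268435456 * ((q ^ 2 - 1) * (q ^ 6 - 1) * (q ^ 8 - 1) * (q ^ 10 - 1) * (q ^ 12 - 1) * (q ^ 14 - 1) *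
      (q ^ 18 - 1))
    ring
  rw [e1, e2] at h
  omega

theorem card_le_E7 {p f M : ℕ} (hY : Art.Real .E7 p f M) : M ≤ p ^ (f * 133) := by
  have h1 := hY.M_le
  have h2 : Art.num .E7 (p ^ f) ≤ (p ^ f) ^ 70 := by
    change ((p ^ f) ^ 2 - 1) * ((p ^ f) ^ 6 - 1) * ((p ^ f) ^ 8 - 1) *
      ((p ^ f) ^ 10 - 1) * ((p ^ f) ^ 12 - 1) * ((p ^ f) ^ 14 - 1) * ((p ^ f) ^ 18 - 1) ≤ _
    calc _ ≤ (p ^ f) ^ 2 * (p ^ f) ^ 6 * (p ^ f) ^ 8 * (p ^ f) ^ 10 * (p ^ f) ^ 12 * (p ^ f) ^ 14 * (p ^ f) ^ 18 := by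
          gcongr <;> exact Nat.sub_le _ _
      _ = _ := by ring
  calc M ≤ (p ^ f) ^ 63 * Art.num .E7 (p ^ f) := h1
    _ ≤ (p ^ f) ^ 63 * (p ^ f) ^ 70 := Nat.mul_le_mul_left _ h2
    _ = _ := by rw [← pow_add, ← pow_mul]

namespace Setting

variable {Q : Type u} [Group Q] [Finite Q] {S : Subgroup Q} {p f M : ℕ} {m : Fin 4 → ℕ}

theorem M_pos (h : Setting Q S p f M m) : 0 < M := Nat.pos_of_ne_zero h.real.M_ne

/-- the class sizes in `S` -/
theorem dvd_S (h : Setting Q S p f M m) (x : S) : (centralizer ({x} : Set S)).index ∣ M := by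
  have := h.normal
  rw [index_centralizer_subgroup]
  exact (relIndex_dvd_index_right _ _).trans (h.dvd x)

theorem index_dvd (h : Setting Q S p f M m) : S.index ∣ Nat.card (Cfsg.Out S) := by
  have := h.normal
  exact index_dvd_card_out S h.cent

theorem two_pow_index (h : Setting Q S p f M m)
    (hS : ∀ (X : Type u) [Group X] [Finite X] [IsSimpleGroup X], Cfsg.IsKnownSimple' X) :
    2 ^ S.index ≤ Nat.card S ^ 3 := by
  have := h.normal
  have := h.simple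
  have hna' : ¬ IsMulCommutative S := fun hc => h.na fun x y => hc.is_comm.comm x y
  have h1 := Cfsg.Agent.H934.OutAll.bd hna' (hS S) ⊥ bot_ne_top
  rw [index_bot] at h1
  exact (Nat.pow_le_pow_right (by norm_num) (Nat.le_of_dvd Nat.card_pos h.index_dvd)).trans h1

theorem num_dvd (h : Setting Q S p f M m) : num .E7 (p ^ f) ∣ dd .E7 (p ^ f) * (Nat.card S * S.index) := by
  obtain ⟨e, he⟩ := h.card
  have hp := h.real.hp
  have h1 : num .E7 (p ^ f) ∣ (dd .E7 (p ^ f) * (Nat.card S * S.index)) * p ^ e := by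
    have h2 : num .E7 (p ^ f) ∣ dd .E7 (p ^ f) * M := by
      rw [h.real.eq]; exact Dvd.intro_left _ rfl
    refine h2.trans ?_
    obtain ⟨k, hk⟩ := he
    refine ⟨k, ?_⟩
    rw [card_mul_index]
    calc dd .E7 (p ^ f) * Nat.card Q * p ^ e = dd .E7 (p ^ f) * (p ^ e * Nat.card Q) := by ring
      _ = dd .E7 (p ^ f) * M * k := by rw [hk, mul_assoc]
  have h2 : (num .E7 (p ^ f)).Coprime (p ^ e) :=
    Nat.Coprime.pow_right _ (Nat.Coprime.symm ((Nat.Prime.coprime_iff_not_dvd hp).2 h.real.not_dvd_num))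
  exact h2.dvd_of_dvd_mul_right h1

theorem num_le (h : Setting Q S p f M m) : num .E7 (p ^ f) ≤ 2 * (Nat.card S * S.index) := by
  have h1 : 0 < S.index := Nat.pos_of_ne_zero index_ne_zero_of_finite
  have h2 : 0 < Nat.card S := Nat.card_pos
  have h3 : dd .E7 (p ^ f) ≤ 2 := Nat.gcd_le_left _ (by norm_num)
  have h4 := Nat.le_of_dvd (Nat.mul_pos (Nat.pos_of_ne_zero h.real.dd_ne) (Nat.mul_pos h2 h1)) h.num_dvd
  exact h4.trans (Nat.mul_le_mul_right _ h3)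

theorem pow_le (h : Setting Q S p f M m) : (p ^ f) ^ 70 ≤ 4 * (Nat.card S * S.index) := by
  have h1 := num_E7_ge h.q4
  have h2 := h.num_le
  omega

/-- the product of three of the `m i` -/
theorem prod_three (h : Setting Q S p f M m) {i0 : Fin 4} {n : ℕ} (hd : ∀ i, i ≠ i0 → m i ∣ n) (hn : 0 < n) :
    (p ^ f) ^ 18 ≤ 1000 * n := by
  have h1 : ∏ i ∈ Finset.univ.erase i0, m i ∣ n := by
    apply Finset.prod_dvd_of_isRelPrime
    · intro i _ j _ hij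
      exact Nat.coprime_iff_isRelPrime.1 (h.coprime i j hij)
    · intro i hi
      exact hd i (Finset.ne_of_mem_erase hi)
  have h2 : ∏ i ∈ Finset.univ.erase i0, (p ^ f) ^ 6 ≤ ∏ i ∈ Finset.univ.erase i0, 10 * m i :=
    Finset.prod_le_prod' fun i _ => h.lo i
  have h3 : (Finset.univ.erase i0 : Finset (Fin 4)).card = 3 := by
    rw [Finset.card_erase_of_mem (Finset.mem_univ _), Finset.card_univ, Fintype.card_fin]
  rw [Finset.prod_const, Finset.prod_mul_distrib, Finset.prod_const, h3, ← pow_mul] at h2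
  calc (p ^ f) ^ 18 ≤ 10 ^ 3 * ∏ i ∈ Finset.univ.erase i0, m i := h2
    _ ≤ 10 ^ 3 * n := Nat.mul_le_mul_left _ (Nat.le_of_dvd hn h1)
    _ = 1000 * n := by norm_num

/-- the class size in `Q` of an element of `S` -/
theorem cs_le (h : Setting Q S p f M m) (x : S) :
    cs (x : Q) ≤ (centralizer ({x} : Set S)).index * S.index := by
  have := h.normal
  rw [cs, index_eq_relIndex_mul _ S, index_centralizer_subgroup]
  exact Nat.mul_le_mul_left _ (Nat.le_of_dvd (Nat.pos_of_ne_zero index_ne_zero_of_finite) (index_dvd_of_le le_sup_right))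

/-- the `r`-part of `M`, `r ≠ p`, is small -/
theorem part_le (h : Setting Q S p f M m) {r : ℕ} (hr : r.Prime) (hrp : r ≠ p) :
    ordProj[r] M ≤ 4 * (p ^ f) ^ 18 := by
  have h1 := h.big3 r hr hrp 0
  have h2 : 0 < m 0 := by
    by_contra h0
    have h3 := h.lo 0
    have h4 : 0 < (p ^ f) ^ 6 := pow_pos (by have := h.q4; omega) _
    omega
  have h3 : 2 * ordProj[r] M < m 1 * m 2 * m 3 := by
    apply lt_of_mul_lt_mul_right (a := m 0) _ (Nat.zero_le _)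
    calc 2 * ordProj[r] M * m 0 < m 0 * m 1 * m 2 * m 3 := h1
      _ = _ := by ring
  have h4 : m 1 * m 2 * m 3 ≤ 8 * (p ^ f) ^ 18 := by
    calc m 1 * m 2 * m 3 ≤ (2 * (p ^ f) ^ 6) * (2 * (p ^ f) ^ 6) * (2 * (p ^ f) ^ 6) :=
          Nat.mul_le_mul (Nat.mul_le_mul (h.hi 1) (h.hi 2)) (h.hi 3)
      _ = _ := by ring
  omega

end Setting

end Cfsg.Agent.H310.TC7
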