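import Mathlib
import Cfsg.Agent.H310.TC7.Setting
import Cfsg.Agent.H310.TC7.AltClass

/-!
# No alternating group (helper310, for S3582)
-/

set_option autoImplicit false

namespace Cfsg.Agent.H310.TC7

open Subgroup Cfsg.Agent.H137.TC7 Cfsg.Agent.H902 Cfsg.Agent.H902.Art

universe u

theorem fact_gt {n : ℕ} (hn : 76 ≤ n) : 2 * n * (2000 * n ^ 4) ^ 8 < n.factorial := by
  induction n, hn using Nat.le_induction with
  | base => decide +kernel
  | succ n hn ih =>
    have h1 : (n + 1) ^ 32 ≤ 2 * n ^ 32 := by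
      have h2 : (64 * (n + 1)) ^ 32 ≤ (65 * n) ^ 32 := Nat.pow_le_pow_left (by omega) 32
      rw [mul_pow, mul_pow] at h2
      have h3 : 65 ^ 32 ≤ 2 * 64 ^ 32 := by norm_num
      have h4 : 65 ^ 32 * n ^ 32 ≤ 2 * 64 ^ 32 * n ^ 32 := Nat.mul_le_mul_right _ h3
      have h5 : 64 ^ 32 * (n + 1) ^ 32 ≤ 64 ^ 32 * (2 * n ^ 32) := by
        calc 64 ^ 32 * (n + 1) ^ 32 ≤ 2 * 64 ^ 32 * n ^ 32 := h2.trans h4
          _ = _ := by ring
      exact Nat.le_of_mul_le_mul_left h5 (by norm_num)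
    rw [Nat.factorial_succ]
    calc 2 * (n + 1) * (2000 * (n + 1) ^ 4) ^ 8 = (n + 1) * (2 * 2000 ^ 8 * (n + 1) ^ 32) := by ring
      _ ≤ (n + 1) * (2 * 2000 ^ 8 * (2 * n ^ 32)) := by gcongr
      _ ≤ (n + 1) * (2 * 2000 ^ 8 * (n * n ^ 32)) := by gcongr; omega
      _ = (n + 1) * (2 * n * (2000 * n ^ 4) ^ 8) := by ring
      _ < (n + 1) * n.factorial := Nat.mul_lt_mul_of_pos_left ih (by omega)

namespace Setting

variable {Q : Type u} [Group Q] [Finite Q] {S : Subgroup Q} {p f M : ℕ} {m : Fin 4 → ℕ}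

theorem alt_false (h : Setting Q S p f M m)
    (hS : ∀ (X : Type u) [Group X] [Finite X] [IsSimpleGroup X], Cfsg.IsKnownSimple' X)
    {n : ℕ} (hn : 5 ≤ n) (e : S ≃* alternatingGroup (Fin n)) : False := by
  have := h.simple
  have hcS : 2 * Nat.card S = n.factorial := by
    have : Nontrivial (Fin n) := Fin.nontrivial_iff_two_le.2 (by omega)
    rw [Nat.card_congr e.toEquiv, two_mul_nat_card_alternatingGroup, Nat.card_perm, Nat.card_fin]
  have hpow := h.pow_le
  by_cases h6 : n = 6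
  · subst h6
    have h360 : Nat.card S = 360 := by
      have : Nat.factorial 6 = 720 := rfl
      omega
    have h2 := h.two_pow_index hS
    have hidx : S.index ≤ 26 := by
      rw [h360] at h2
      have h1 : 2 ^ S.index ≤ 2 ^ 26 := h2.trans (by norm_num)
      exact (Nat.pow_le_pow_iff_right (by norm_num : 1 < 2)).1 h1
    have h3 : 4 ^ 70 ≤ (p ^ f) ^ 70 := Nat.pow_le_pow_left h.q4 70
    rw [h360] at hpow
    norm_num at h3
    omega
  have hout : S.index ≤ 2 := by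
    have hsa : IsSimpleGroup (alternatingGroup (Fin n)) := e.symm.isSimpleGroup
    have h1 : Nat.card (Cfsg.Out S) = 2 := by
      rw [Cfsg.Agent.H934.OutB.card_out_congr e]
      exact Cfsg.Agent.H934.OutAll.card_out_alt hn h6 (fun hc => h.na fun x y => e.injective (by
        rw [map_mul, map_mul, hc.is_comm.comm]))
    have h2 := h.index_dvd
    rw [h1] at h2
    exact Nat.le_of_dvd (by norm_num) h2
  -- a small class
  have hsmall : ∃ x : alternatingGroup (Fin n), ∃ ℓ : ℕ, ℓ.Prime ∧ ℓ ≠ p ∧ orderOf x = ℓ ∧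
      (centralizer ({x} : Set (alternatingGroup (Fin n)))).index ≤ n ^ 4 := by
    by_cases hp : p = 3
    · obtain ⟨x, h1, h2⟩ := exists_two hn
      exact ⟨x, 2, Nat.prime_two, by omega, h1, h2⟩
    · obtain ⟨x, h1, h2⟩ := exists_three hn
      exact ⟨x, 3, Nat.prime_three, Ne.symm hp, h1, h2⟩
  obtain ⟨x, ℓ, hℓ, hℓp, hx, hxi⟩ := hsmall
  have hidx : ∀ y : alternatingGroup (Fin n), (centralizer ({e.symm y} : Set S)).index =
      (centralizer ({y} : Set (alternatingGroup (Fin n)))).index := fun y => (index_centralizer_equiv e.symm y).symm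
  have ho : orderOf ((e.symm x : S) : Q) = ℓ := by
    rw [Subgroup.orderOf_coe, MulEquiv.orderOf_eq, hx]
  obtain ⟨i0, hi0⟩ := h.typ _ ℓ hℓ hℓp ho
  have h1 := h.prod_three hi0 (Nat.pos_of_ne_zero index_ne_zero_of_finite)
  have h2 := h.cs_le (e.symm x)
  rw [hidx] at h2
  have h3 : (p ^ f) ^ 18 ≤ 2000 * n ^ 4 := by
    calc (p ^ f) ^ 18 ≤ 1000 * cs ((e.symm x : S) : Q) := h1
      _ ≤ 1000 * (n ^ 4 * 2) := Nat.mul_le_mul_left _ (h2.trans (Nat.mul_le_mul hxi hout))
      _ = _ := by ring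
  have hn76 : 76 ≤ n := by
    by_contra hcon
    have h4 : n ^ 4 ≤ 75 ^ 4 := Nat.pow_le_pow_left (by omega) 4
    have h5 : 4 ^ 18 ≤ (p ^ f) ^ 18 := Nat.pow_le_pow_left h.q4 18
    norm_num at h4 h5
    omega
  -- a large class
  obtain ⟨y, hy⟩ := exists_large hn
  have h4 : (centralizer ({y} : Set (alternatingGroup (Fin n)))).index ≤ M := by
    rw [← hidx]
    exact Nat.le_of_dvd h.M_pos (h.dvd_S _)
  have h5 : M ≤ (2000 * n ^ 4) ^ 8 := by
    calc M ≤ p ^ (f * 133) := card_le_E7 h.real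
      _ ≤ p ^ (f * 144) := Nat.pow_le_pow_right h.real.hp.pos (Nat.mul_le_mul_left _ (by norm_num))
      _ = ((p ^ f) ^ 18) ^ 8 := by rw [← pow_mul, ← pow_mul]
      _ ≤ _ := Nat.pow_le_pow_left h3 8
  have h6 : n.factorial ≤ 2 * n * (2000 * n ^ 4) ^ 8 := hy.trans (Nat.mul_le_mul_left _ (h4.trans h5))
  have := fact_gt hn76
  omega

end Setting

end Cfsg.Agent.H310.TC7
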