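import Mathlib
import Cfsg.Agent.H310.TC7.Setting
import Cfsg.Agent.OrdDiv.Main
import Cfsg.Agent.OrdDiv.Table
import Cfsg.Agent.H902.Names

/-!
# Cross characteristic and sporadic groups (helper310, for S3582)
-/

set_option autoImplicit false

namespace Cfsg.Agent.H310.TC7

open Subgroup Cfsg.Agent.H137.TC7 Cfsg.Agent.H902 Cfsg.Agent.H902.Art Cfsg.Agent.OrdDiv

universe u

namespace Setting

variable {Q : Type u} [Group Q] [Finite Q] {S : Subgroup Q} {p f M : ℕ} {m : Fin 4 → ℕ}

/-- **No group of Lie type in another characteristic.** -/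
theorem cross_false (h : Setting Q S p f M m)
    (hS : ∀ (X : Type u) [Group X] [Finite X] [IsSimpleGroup X], Cfsg.IsKnownSimple' X)
    {X : Sh} {t g : ℕ} (hX : Art.Real X t g (Nat.card S)) (htp : t ≠ p) (hd : Nat.card S ∣ M) : False := by
  have ht := hX.hp
  have hq4 := h.q4
  have hA : P t (Nat.card S) ≤ 4 * (p ^ f) ^ 18 := (P_mono ht h.real.M_ne hd).trans (h.part_le ht htp)
  have hN3 : Nat.card S ≤ 64 * (p ^ f) ^ 54 := by
    calc Nat.card S ≤ P t (Nat.card S) ^ 3 := hX.lt_cube.le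
      _ ≤ (4 * (p ^ f) ^ 18) ^ 3 := Nat.pow_le_pow_left hA 3
      _ = _ := by ring
  have hpow := h.pow_le
  have hc := h.two_pow_index hS
  generalize p ^ f = q at hq4 hN3 hpow
  have hqq : q < 2 ^ q := Nat.lt_two_pow_self
  have hc2 : S.index ≤ 167 * q := by
    have h1 : 2 ^ S.index ≤ 2 ^ (18 + 162 * q) := by
      calc 2 ^ S.index ≤ Nat.card S ^ 3 := hc
        _ ≤ (64 * q ^ 54) ^ 3 := Nat.pow_le_pow_left hN3 3
        _ = 2 ^ 18 * q ^ 162 := by ring
        _ ≤ 2 ^ 18 * (2 ^ q) ^ 162 := Nat.mul_le_mul_left _ (Nat.pow_le_pow_left hqq.le _)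
        _ = _ := by rw [← pow_mul, ← pow_add, mul_comm q]
    have h2 := (Nat.pow_le_pow_iff_right (by norm_num : 1 < 2)).1 h1
    omega
  have h1 : q ^ 70 ≤ 42752 * q ^ 55 := by
    calc q ^ 70 ≤ 4 * (Nat.card S * S.index) := hpow
      _ ≤ 4 * ((64 * q ^ 54) * (167 * q)) := Nat.mul_le_mul_left _ (Nat.mul_le_mul hN3 hc2)
      _ = _ := by ring
  have h2 : 4 ^ 15 * q ^ 55 ≤ q ^ 70 := by
    calc 4 ^ 15 * q ^ 55 ≤ q ^ 15 * q ^ 55 := Nat.mul_le_mul_right _ (Nat.pow_le_pow_left hq4 15)
      _ = _ := by ring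
  have h3 : 0 < q ^ 55 := pow_pos (by omega) _
  norm_num at h2
  omega

end Setting

/-! ### sporadic groups -/

theorem spor_le : ∀ x ∈ spor, x.2 ≤ 808017424794512875886459904961710757005754368000000000 := by decide +kernel

theorem spor_E7_4 : ∀ x ∈ spor, 540 < num .E7 4 / Nat.gcd (num .E7 4) (dd .E7 4 * x.2) := by decide +kernel

theorem spor_E7_5 : ∀ x ∈ spor, 540 < num .E7 5 / Nat.gcd (num .E7 5) (dd .E7 5 * x.2) := by decide +kernel

theorem le_of_dvd_mul {n A c : ℕ} (h : n ∣ A * c) (hn : n ≠ 0) (hc : 0 < c) : n / Nat.gcd n A ≤ c := by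
  have hg : 0 < Nat.gcd n A := Nat.gcd_pos_of_pos_left _ (Nat.pos_of_ne_zero hn)
  have h4 : n / Nat.gcd n A ∣ c := by
    have h5 : (n / Nat.gcd n A).Coprime (A / Nat.gcd n A) := Nat.coprime_div_gcd_div_gcd hg
    apply h5.dvd_of_dvd_mul_left
    obtain ⟨k, hk⟩ := h
    refine ⟨k, ?_⟩
    apply Nat.eq_of_mul_eq_mul_left hg
    calc Nat.gcd n A * (A / Nat.gcd n A * c) = (A / Nat.gcd n A * Nat.gcd n A) * c := by ring
      _ = n * k := by rw [Nat.div_mul_cancel (Nat.gcd_dvd_right n A), hk]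
      _ = (n / Nat.gcd n A * Nat.gcd n A) * k := by rw [Nat.div_mul_cancel (Nat.gcd_dvd_left n A)]
      _ = _ := by ring
  exact Nat.le_of_dvd hc h4

theorem num_E7_mono {q B : ℕ} (h : B ≤ q) : num .E7 B ≤ num .E7 q := by
  have h1 : ∀ k, B ^ k - 1 ≤ q ^ k - 1 := fun k => Nat.sub_le_sub_right (Nat.pow_le_pow_left h k) 1
  exact Nat.mul_le_mul (Nat.mul_le_mul (Nat.mul_le_mul (Nat.mul_le_mul (Nat.mul_le_mul (Nat.mul_le_mul (h1 _) (h1 _))
    (h1 _)) (h1 _)) (h1 _)) (h1 _)) (h1 _)

theorem exists_spor {S : Type u} [Group S] (T : OrderTable.{u}) (h : Lie.IsoTits S ∨ IsSporadicGroup S) :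
    ∃ x ∈ spor, Nat.card S = x.2 := by
  have key : ∀ (g : Grp), g ∈ spor.map (fun x => x.1) → OrdDiv.Real g S → ∃ x ∈ spor, Nat.card S = x.2 := fun g hg hr => by
    obtain ⟨x, hx, rfl⟩ := List.mem_map.1 hg
    exact ⟨x, hx, T.spor S x hx hr⟩
  rcases h with h | h
  · exact key .tits (by decide) h
  · rcases h with h | h | h | h | h | h | h | h | h | h | h | h | h | h | h | h | h | h | h | h | h | h | h | h | h | h
    · exact key .m11 (by decide) h
    · exact key .m12 (by decide) h
    · exact key .m22 (by decide) h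
    · exact key .m23 (by decide) h
    · exact key .m24 (by decide) h
    · exact key .j1 (by decide) h
    · exact key .j2 (by decide) h
    · exact key .j3 (by decide) h
    · exact key .j4 (by decide) h
    · exact key .co1 (by decide) h
    · exact key .co2 (by decide) h
    · exact key .co3 (by decide) h
    · exact key .mcl (by decide) h
    · exact key .hs (by decide) h
    · exact key .suz (by decide) h
    · exact key .he (by decide) h
    · exact key .ru (by decide) h
    · exact key .on (by decide) h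
    · exact key .ly (by decide) h
    · exact key .fi22 (by decide) h
    · exact key .fi23 (by decide) h
    · exact key .fi24 (by decide) h
    · exact key .hn (by decide) h
    · exact key .th (by decide) h
    · exact key .b (by decide) h
    · exact key .m (by decide) h

namespace Setting

variable {Q : Type u} [Group Q] [Finite Q] {S : Subgroup Q} {p f M : ℕ} {m : Fin 4 → ℕ}

/-- **No sporadic group.** -/
theorem spor_false (h : Setting Q S p f M m)
    (hS : ∀ (X : Type u) [Group X] [Finite X] [IsSimpleGroup X], Cfsg.IsKnownSimple' X)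
    (hs : Lie.IsoTits S ∨ IsSporadicGroup S) : False := by
  obtain ⟨x, hx, hcx⟩ := exists_spor table hs
  have hle := spor_le x hx
  have hc := h.two_pow_index hS
  have hc2 : S.index ≤ 540 := by
    have h1 : 2 ^ S.index ≤ 2 ^ 540 := by
      calc 2 ^ S.index ≤ Nat.card S ^ 3 := hc
        _ ≤ (2 ^ 180) ^ 3 := Nat.pow_le_pow_left (by rw [hcx]; exact hle.trans (by norm_num)) 3
        _ = _ := by rw [← pow_mul]
    exact (Nat.pow_le_pow_iff_right (by norm_num : 1 < 2)).1 h1
  have hi : 0 < S.index := Nat.pos_of_ne_zero index_ne_zero_of_finite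
  have hnd := h.num_dvd
  have hnl := h.num_le
  have hn0 := h.real.num_ne
  have hq4 := h.q4
  rw [hcx] at hnd hnl
  by_cases hq7 : 7 ≤ p ^ f
  · have h1 := (num_E7_mono hq7).trans hnl
    have h2 : 2 * (x.2 * S.index) ≤ 2 * (808017424794512875886459904961710757005754368000000000 * 540) :=
      Nat.mul_le_mul_left _ (Nat.mul_le_mul hle hc2)
    have h3 : 2 * (808017424794512875886459904961710757005754368000000000 * 540) < num .E7 7 := by decide +kernel
    omega
  have h6 : p ^ f ≠ 6 := by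
    intro h6
    have h2 : 2 ∣ p ^ f := by rw [h6]; norm_num
    have h3 : 3 ∣ p ^ f := by rw [h6]; norm_num
    have h4 := (Nat.prime_dvd_prime_iff_eq Nat.prime_two h.real.hp).1 (Nat.prime_two.dvd_of_dvd_pow h2)
    have h5 := (Nat.prime_dvd_prime_iff_eq Nat.prime_three h.real.hp).1 (Nat.prime_three.dvd_of_dvd_pow h3)
    omega
  have h45 : p ^ f = 4 ∨ p ^ f = 5 := by omega
  rcases h45 with h4 | h5
  · rw [h4] at hnd hn0
    rw [← mul_assoc] at hnd
    have h1 := le_of_dvd_mul hnd hn0 hi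
    have h2 := spor_E7_4 x hx
    omega
  · rw [h5] at hnd hn0
    rw [← mul_assoc] at hnd
    have h1 := le_of_dvd_mul hnd hn0 hi
    have h2 := spor_E7_5 x hx
    omega

end Setting

end Cfsg.Agent.H310.TC7
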