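import Mathlib
import Cfsg.Agent.S0906
import Cfsg.Agent.S0908
import Cfsg.Agent.S0914
import Cfsg.Agent.Blocks.ExistsModular
import Cfsg.Agent.Blocks.Basic
import Cfsg.Agent.H167.HasSt

/-!
# An element with centraliser of order prime to `p` in a group with a Steinberg character (helper310)
-/

set_option autoImplicit false

namespace Cfsg.Agent.H310.TC7

open Subgroup Cfsg Cfsg.Agent.H167.StChar

/-- A group with an irreducible character of defect zero has an element whose centraliser has order prime to `p`. -/
theorem exists_centralizer_not_dvd_of_char {p : ℕ} [hp : Fact p.Prime] {T : Type*} [Group T] [Finite T]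
    (χ : IrrCharacter T) (h : charDegree (χ : T → ℂ) = p ^ (Nat.card T).factorization p) :
    ∃ g : T, ¬ p ∣ Nat.card (centralizer ({g} : Set T)) := by
  obtain ⟨M, hM⟩ := Cfsg.Agent.Blocks.ExistsModular.exists_isPModular hp.out
  have h1 : ¬ p ∣ Nat.card T / charDegree (χ : T → ℂ) := by
    rw [h]
    exact Nat.not_dvd_ordCompl hp.out Nat.card_pos.ne'
  have h2 := (S0914.result p M hM χ).1 h1
  have hB : IsPBlock M (blockOf M (χ : T → ℂ)) := ⟨χ, rfl⟩
  obtain ⟨g, hg⟩ := S0906.result p M hM _ hB
  refine ⟨g, ?_⟩
  let P : Sylow p (centralizer ({g} : Set T)) := default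
  have h3 := S0908.result p M hM _ hB ((P : Subgroup (centralizer ({g} : Set T))).map
    (centralizer ({g} : Set T)).subtype) ⟨g, hg, P, rfl⟩
  have h4 : blockDefect p (blockOf M (χ : T → ℂ)) = 0 := by
    rw [h2, blockDefect, Set.image_singleton, csInf_singleton, h, hp.out.factorization_pow, Finsupp.single_eq_same,
      Nat.sub_self]
  rw [h4, pow_zero, card_map_of_injective (centralizer ({g} : Set T)).subtype_injective] at h3
  have h5 := P.card_eq_multiplicity
  rw [h3] at h5
  intro hd
  have h6 := (hp.out.dvd_iff_one_le_factorization (Nat.card_pos (α := centralizer ({g} : Set T))).ne').1 hd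
  have h7 : p ^ 1 ≤ p ^ (Nat.card (centralizer ({g} : Set T))).factorization p :=
    Nat.pow_le_pow_right hp.out.pos h6
  rw [pow_one, ← h5] at h7
  have := hp.out.two_le
  omega

/-- **Steinberg**: an element with centraliser of order prime to `p`. -/
theorem exists_centralizer_not_dvd {p : ℕ} [hp : Fact p.Prime] {T : Type*} [Group T] [Finite T] (h : HasSt p T) :
    ∃ g : T, ¬ p ∣ Nat.card (centralizer ({g} : Set T)) := by
  obtain ⟨χ, hχ, h1, -⟩ := h
  refine exists_centralizer_not_dvd_of_char ⟨χ, hχ⟩ ?_
  exact Cfsg.Agent.Blocks.Basic.charDegree_of_eq h1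

end Cfsg.Agent.H310.TC7
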