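import Mathlib
import Cfsg.Agent.H310.TC7.StReg
import Cfsg.Agent.H167.HasStLie
import Cfsg.Agent.H463.LieReg

/-!
# Class sizes in simple groups of Lie type and the order (helper310, for S3582)

* `exists_class` : an element `x ≠ 1` whose class size is divisible by the full `p`-part of the order;
* `card_dvd` : if all class sizes divide `M` then so does the order.
-/

set_option autoImplicit false

namespace Cfsg.Agent.H310.TC7

open Subgroup Cfsg

universe u

variable {S : Type u} [Group S] [Finite S]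

/-- The class size of an element whose centraliser has order prime to `r`. -/
theorem ordProj_dvd_of_not_dvd {r : ℕ} (hr : r.Prime) {x : S} (hx : ¬ r ∣ Nat.card (centralizer ({x} : Set S))) :
    ordProj[r] (Nat.card S) ∣ (centralizer ({x} : Set S)).index := by
  have h1 := (centralizer ({x} : Set S)).index_mul_card
  have h2 : (r ^ (Nat.card S).factorization r).Coprime (Nat.card (centralizer ({x} : Set S))) :=
    Nat.Coprime.pow_left _ ((Nat.Prime.coprime_iff_not_dvd hr).2 hx)
  refine h2.dvd_of_dvd_mul_right ?_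
  rw [h1]
  exact Nat.ordProj_dvd _ _

theorem exists_class {p : ℕ} (hp : p.Prime) [IsSimpleGroup S] (h : IsLieTypeChar p S) (hd : p ∣ Nat.card S) :
    ∃ x : S, x ≠ 1 ∧ ordProj[p] (Nat.card S) ∣ (centralizer ({x} : Set S)).index := by
  have := Fact.mk hp
  obtain ⟨x, hx⟩ := exists_centralizer_not_dvd (Cfsg.Agent.H167.StChar.hasSt_of_lie hp h)
  refine ⟨x, ?_, ordProj_dvd_of_not_dvd hp hx⟩
  rintro rfl
  apply hx
  have h1 : centralizer ({1} : Set S) = ⊤ := by
    rw [eq_top_iff]
    intro y _
    rw [mem_centralizer_singleton_iff]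
    simp
  rw [h1, card_top]
  exact hd

/-- **The order divides `M`.** -/
theorem card_dvd {p : ℕ} (hp : p.Prime) [IsSimpleGroup S] (h : IsLieTypeChar p S) {M : ℕ} (hM : M ≠ 0)
    (hd : ∀ x : S, (centralizer ({x} : Set S)).index ∣ M) : Nat.card S ∣ M := by
  have := Fact.mk hp
  obtain ⟨x, hx⟩ := exists_centralizer_not_dvd (Cfsg.Agent.H167.StChar.hasSt_of_lie hp h)
  obtain ⟨z, -, -, hz⟩ := Cfsg.Agent.H463.LieReg.exists_regular_isPGroup inferInstance h
  rw [← Nat.factorization_prime_le_iff_dvd Nat.card_pos.ne' hM]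
  intro r hr
  rw [← hr.pow_dvd_iff_le_factorization hM]
  by_cases hrp : r = p
  · subst hrp
    exact (ordProj_dvd_of_not_dvd hr hx).trans (hd x)
  · refine (ordProj_dvd_of_not_dvd hr (x := z) ?_).trans (hd z)
    intro h1
    obtain ⟨n, hn⟩ := IsPGroup.iff_card.1 hz
    rw [hn] at h1
    exact hrp ((Nat.prime_dvd_prime_iff_eq hr hp).1 (hr.dvd_of_dvd_pow h1))

end Cfsg.Agent.H310.TC7
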