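import Mathlib
import Cfsg.Agent.H310.TC7.Setting
import Cfsg.Agent.H962.SameOut
import Cfsg.Agent.H364.OutLie

/-!
# Equal characteristic (helper310, for S3582)
-/

set_option autoImplicit false

namespace Cfsg.Agent.H310.TC7

open Subgroup Cfsg.Agent.H137.TC7 Cfsg.Agent.H902 Cfsg.Agent.H902.Art Cfsg.Agent.H962.SameOut
open Cfsg.Agent.H962.IdSame

universe u

section

variable {X : Sh} {p g f M N : ℕ}

/-- large primes do not divide `|Out|` -/
theorem not_dvd_out (hX : Art.Real X p g N) {c t k : ℕ} (hI : OutC X p g c) (ht : t.Prime)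
    (hk : 4 ≤ k) (ho : orderOf (p : ZMod t) = k) (h1 : g < k) (h2 : (∃ n, X = .U n) → 2 * g < k) : ¬ t ∣ c := by
  intro htc
  have hg := hX.hf
  have htf : Fact t.Prime := ⟨ht⟩
  have htp : t ≠ p := ne_of_order ht (by omega) ho
  have hlt : k < t := by
    rw [← ho]
    have hne : (p : ZMod t) ≠ 0 := by
      rw [Ne, ZMod.natCast_eq_zero_iff]
      intro h
      exact htp ((Nat.prime_dvd_prime_iff_eq ht hX.hp).1 h)
    have h1 := ZMod.orderOf_dvd_card_sub_one hne
    have h2 := Nat.le_of_dvd (by have := ht.two_le; omega) h1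
    have := ht.two_le
    omega
  rcases hI.prime hX ht (by omega) htc with h | ⟨h, -⟩ | ⟨h, n, rfl⟩
  · have := Nat.le_of_dvd (by omega) h
    omega
  · rw [ho] at h
    have := Nat.le_of_dvd (by omega) h
    omega
  · rw [ho] at h
    have h3 := Nat.le_of_dvd (by omega) h
    have := h2 ⟨n, rfl⟩
    omega

/-- **Equal characteristic.** -/
theorem same_char (hX : Art.Real X p g N) (hY : Art.Real .E7 p f M) (hd : N ∣ M) {c : ℕ} (hI : OutC X p g c)
    (hpr : ∀ r : ℕ, r.Prime → r ≠ p → r ∣ M → r ∣ N ∨ r ∣ c) : X = .E7 ∧ g = f := by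
  have hp := hX.hp
  have hf := hY.hf
  have hg := hX.hf
  have hge := DM_ge hX
  have hltX := BM_lt hX
  have hDY : DM .E7 = 18 := rfl
  have hBY : BM .E7 = 14 := rfl
  -- the largest exponent
  have hle : g * DM X ≤ f * 18 := le_DM hX hY hd (by rw [hDY]; omega)
  have hge18 : f * 18 ≤ g * DM X := by
    obtain ⟨r, hr, hrp, hro⟩ := exists_ppd hp (by omega : 3 ≤ f * 18) (by omega)
    have h1 : r ∣ M := hY.dvd_of_order_DM hr hro (by rw [hDY]; omega)
    have h2 : ¬ r ∣ c := not_dvd_c hX hY IsExc.E7 hd hI hr hro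
    have h3 := (hpr r hr hrp h1).resolve_right h2
    rcases hX.order_cases hr hrp h3 with h | ⟨e, he, heB, h⟩
    · rw [hro] at h
      exact Nat.le_of_dvd (Nat.mul_pos hg (by omega)) h
    · rw [hro] at h
      exact (Nat.le_of_dvd (Nat.mul_pos hg he) h).trans (Nat.mul_le_mul_left _ (by omega))
  have hD : g * DM X = f * DM .E7 := le_antisymm hle hge18
  have hg9 : g * 2 ≤ f * 18 := (Nat.mul_le_mul_left g hge.1).trans hle
  have hg6 : (∃ n, X = .U n) → g * 3 ≤ f * 18 := fun h => (Nat.mul_le_mul_left g (hge.2 h)).trans hle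
  -- the second exponent
  have h14 : f * 14 ≤ g * BM X := by
    obtain ⟨r, hr, hrp, hro⟩ := exists_ppd hp (by omega : 3 ≤ f * 14) (by omega)
    have h1 : r ∣ M := hY.dvd_of_order_BM hr (by decide) hro (by rw [hBY]; omega)
    have h2 : ¬ r ∣ c := not_dvd_out hX hI hr (by omega) hro (by omega) (fun h => by have := hg6 h; omega)
    have h3 := (hpr r hr hrp h1).resolve_right h2
    rcases hX.order_cases hr hrp h3 with h | ⟨e, he, heB, h⟩
    · exfalso
      rw [hro, hD, hDY] at h
      have := Nat.dvd_of_mul_dvd_mul_left hf h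
      norm_num at this
    · rw [hro] at h
      exact (Nat.le_of_dvd (Nat.mul_pos hg he) h).trans (Nat.mul_le_mul_left _ heB)
  have hBX : DM X < 2 * BM X := by
    have h5 : g * DM X < g * (2 * BM X) := by
      calc g * DM X ≤ f * 18 := hle
        _ < 2 * (f * 14) := by omega
        _ ≤ 2 * (g * BM X) := Nat.mul_le_mul_left _ h14
        _ = g * (2 * BM X) := by ring
    exact Nat.lt_of_mul_lt_mul_left h5
  have hBB : g * BM X = f * BM .E7 := by
    refine le_antisymm ?_ h14
    obtain ⟨r, hr, hrp, ho⟩ := exists_ppd hp (by omega : 3 ≤ g * BM X) (by omega)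
    have hd' : r ∣ M := (hX.dvd_of_order_BM hr hBX ho (by omega)).trans hd
    rcases hY.order_cases hr hrp hd' with h | ⟨e', he, heB, h⟩
    · exfalso
      rw [ho, ← hD] at h
      obtain ⟨c', hc⟩ := Nat.dvd_of_mul_dvd_mul_left hg h
      have hc2 : c' < 2 := by
        by_contra hcon
        have : BM X * 2 ≤ BM X * c' := Nat.mul_le_mul_left _ (by omega)
        omega
      have hc0 : c' ≠ 0 := by rintro rfl; omega
      have hc1 : c' = 1 := by omega
      rw [hc1] at hc
      omega
    · rw [ho] at h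
      exact (Nat.le_of_dvd (Nat.mul_pos hf he) h).trans (Nat.mul_le_mul_left _ heB)
  have hr := ratio hX hY hD hBB
  rw [hDY, hBY] at hr
  -- the unitary groups
  have kill : ∀ n, X = .U n → n ≤ 10 → DM X = 18 → False := by
    rintro n rfl hn hD18
    have hgf : g = f := by rw [hD18, hDY] at hD; omega
    subst hgf
    obtain ⟨r, hr, hrp, hro⟩ := exists_ppd hp (by omega : 3 ≤ g * 9) (by omega)
    have h1 : r ∣ M := by
      refine hY.dvd_of_dvd_num hr (hY.not_dvd_dd_of_order hr hro (by omega) (by norm_num) (fun _ => by norm_num)) ?_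
      have h2 : r ∣ (p ^ g) ^ 18 - 1 := (dvd_iff hp 18).2 (by rw [hro]; exact Nat.mul_dvd_mul_left g (by norm_num))
      exact h2.mul_left _
    have h2 : ¬ r ∣ c := not_dvd_out hX hI hr (by omega) hro (by omega) (fun _ => by omega)
    have h3 := (hpr r hr hrp h1).resolve_right h2
    have h4 := hX.dvd_num_of_dvd hr hrp h3
    obtain ⟨i, hi, hdi⟩ := (hr.prime.dvd_finsetProd_iff _).1 (show r ∣ ∏ i ∈ Finset.range (n - 1),
      (if Even i then (p ^ g) ^ (i + 2) - 1 else (p ^ g) ^ (i + 2) + 1) from h4)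
    rw [Finset.mem_range] at hi
    have h9 : ∀ k, r ∣ (p ^ g) ^ k - 1 → 9 ∣ k := by
      intro k hk
      have h5 := (dvd_iff hp k).1 hk
      rw [hro] at h5
      exact Nat.dvd_of_mul_dvd_mul_left hg h5
    by_cases he : Even i
    · rw [if_pos he] at hdi
      have h5 := h9 _ hdi
      obtain ⟨j, hj⟩ := he
      obtain ⟨l, hl⟩ := h5
      omega
    · rw [if_neg he] at hdi
      have h5 := dvd_of_add hp hdi
      rw [hro] at h5
      obtain ⟨l, hl⟩ := Nat.dvd_of_mul_dvd_mul_left hg h5
      have hi9 : i + 2 = 9 := by omega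
      rw [hi9] at hdi
      have h6 : r ∣ (p ^ g) ^ 9 - 1 := (dvd_iff hp 9).2 (by rw [hro])
      have h7 : 1 ≤ (p ^ g) ^ 9 := Nat.one_le_pow _ _ (pow_pos hp.pos _)
      have h8 : r ∣ 2 := by
        have : (2 : ℕ) = ((p ^ g) ^ 9 + 1) - ((p ^ g) ^ 9 - 1) := by omega
        rw [this]
        exact Nat.dvd_sub hdi h6
      have h10 := Nat.le_of_dvd (by norm_num) h8
      have hr2 : r = 2 := le_antisymm h10 hr.two_le
      rw [hr2] at hro
      have h11 : orderOf (p : ZMod 2) ≤ 1 := by
        have : ∀ x : ZMod 2, orderOf x ≤ 1 := by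
          intro x
          fin_cases x
          · have h0 : ¬ IsOfFinOrder (0 : ZMod 2) := by
              rw [isOfFinOrder_iff_pow_eq_one]
              rintro ⟨n, hn, h⟩
              rw [zero_pow (by omega)] at h
              exact absurd h (by decide)
            show orderOf (0 : ZMod 2) ≤ 1
            rw [orderOf_eq_zero h0]; norm_num
          · show orderOf (1 : ZMod 2) ≤ 1
            rw [orderOf_one]
        exact this _
      omega
  have fin : X = .E7 → X = .E7 ∧ g = f := by
    intro h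
    refine ⟨h, ?_⟩
    rw [h, hDY] at hD
    omega
  have hok := hX.ok
  cases X with
  | L n =>
    have hn : 2 ≤ n := hok.1
    change n * 4 = 18 * (n - (n - 1)) at hr
    omega
  | C n =>
    have hn : 2 ≤ n := hok.1
    change 2 * n * 4 = 18 * (2 * n - 2 * (n - 1)) at hr
    omega
  | U n =>
    exfalso
    have hn : 3 ≤ n := hok.1
    have hDM : DM (.U n) = if Even n then 2 * (n - 1) else 2 * n := rfl
    have hBM : BM (.U n) = if Even n then (if n = 4 then 4 else 2 * (n - 3)) else 2 * (n - 2) := rfl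
    by_cases he : Even n
    · rw [if_pos he] at hDM hBM
      by_cases h4 : n = 4
      · rw [if_pos h4] at hBM
        rw [hDM, hBM] at hr
        omega
      · rw [if_neg h4] at hBM
        rw [hDM, hBM] at hr
        exact kill n rfl (by omega) (by rw [hDM]; omega)
    · rw [if_neg he] at hDM hBM
      rw [hDM, hBM] at hr
      exact kill n rfl (by omega) (by rw [hDM]; omega)
  | D n =>
    have hn : 4 ≤ n := hok
    change 2 * (n - 1) * 4 = 18 * (2 * (n - 1) - 2 * (n - 2)) at hr
    omega
  | DD n =>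
    have hn : 4 ≤ n := hok
    change 2 * n * 4 = 18 * (2 * n - 2 * (n - 1)) at hr
    omega
  | G2 => exact absurd hr (by decide)
  | F4 => exact absurd hr (by decide)
  | E6 => exact absurd hr (by decide)
  | E7 => exact fin rfl
  | E8 => exact absurd hr (by decide)
  | TE6 => exact absurd hr (by decide)
  | TD4 => exact absurd hr (by decide)
  | Sz => exact absurd hr (by decide)
  | Ree => exact absurd hr (by decide)
  | TF4 => exact absurd hr (by decide)

end

namespace Setting

variable {Q : Type u} [Group Q] [Finite Q] {S : Subgroup Q} {p f M : ℕ} {m : Fin 4 → ℕ}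

theorem same (h : Setting Q S p f M m) {X : Sh} {g : ℕ} (hX : Art.Real X p g (Nat.card S))
    (hd : Nat.card S ∣ M) (hB : Cfsg.Agent.H364.OutLie.Bd S X p g) : X = .E7 ∧ g = f := by
  obtain ⟨c0, h1, h2, h3⟩ := hB
  refine same_char hX h.real hd (c := S.index) ⟨c0, h1 ▸ h.index_dvd, h2, h3⟩ ?_
  intro r hr hrp hrM
  obtain ⟨e, he⟩ := h.card
  have h4 := hrM.trans he
  rw [← card_mul_index S] at h4
  rcases hr.dvd_mul.1 h4 with h5 | h5
  · exact absurd ((Nat.prime_dvd_prime_iff_eq hr hX.hp).1 (hr.dvd_of_dvd_pow h5)) hrp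
  · exact hr.dvd_mul.1 h5

end Setting

end Cfsg.Agent.H310.TC7
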