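import Mathlib
import Cfsg.Agent.H310.TC7.AltE7
import Cfsg.Agent.H310.TC7.CrossE7
import Cfsg.Agent.H310.TC7.SameE7
import Cfsg.Agent.H310.TC7.LieCard
import Cfsg.Agent.H137.TC7.TypesE7
import Cfsg.Agent.OddHalf.Known
import Cfsg.Agent.H902.Iso
import Cfsg.Agent.H364.LieNam

/-!
# Groups with the class sizes of `E₇(q)`, `q ≥ 4`, have a normal subgroup `E₇(q)` (helper310, for S3582)

* `Setting.ident` : the simple subgroup is `E₇(q)`;
* `main_types` : `Types G p M m t` gives `S ⊴ G`, `S ≃ E₇(q)`, `C_G(S) = 1`;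
* `main` : the same for the numbers `mv`, `tv` of helper137.
-/

set_option autoImplicit false

namespace Cfsg.Agent.H310.TC7

open Subgroup Cfsg Cfsg.Lie Cfsg.Agent.H137.TC7 Cfsg.Agent.H902 Cfsg.Agent.H902.Art Cfsg.Agent.OrdDiv

universe u v

namespace Setting

variable {Q : Type u} [Group Q] [Finite Q] {S : Subgroup Q} {p f M : ℕ} {m : Fin 4 → ℕ}

/-- **Identification.** -/
theorem ident (h : Setting Q S p f M m)
    (hS : ∀ (X : Type u) [Group X] [Finite X] [IsSimpleGroup X], Cfsg.IsKnownSimple' X) :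
    OrdDiv.Real (.e7 (p ^ f)) S ∧ Nat.card S = M ∧ IsLieTypeChar p S := by
  have := h.simple
  have hna' : ¬ IsMulCommutative S := fun hc => h.na fun x y => hc.is_comm.comm x y
  rcases Cfsg.Agent.OddHalf.Known.classify' hna' (hS S) with h1 | h1 | h1 | h1
  · obtain ⟨n, hn, ⟨e⟩⟩ := h1
    exact (h.alt_false hS hn e).elim
  · obtain ⟨t, ht, hL⟩ := h1
    have hd : Nat.card S ∣ M := card_dvd ht hL h.real.M_ne h.dvd_S
    obtain ⟨g, X, k, hg, hr, hX⟩ := Cfsg.Agent.H364.LieNam.lie_nam table ht hL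
    by_cases htp : t = p
    · subst htp
      obtain ⟨rfl, rfl⟩ := h.same hX hd (Cfsg.Agent.H364.OutLie.card_out h.na hg hr hX)
      refine ⟨?_, ?_, hL⟩
      · cases hg
        exact hr
      · apply Nat.eq_of_mul_eq_mul_left (Nat.pos_of_ne_zero hX.dd_ne)
        rw [hX.eq, h.real.eq]
    · exact (h.cross_false hS hX htp hd).elim
  · exact (h.spor_false hS (Or.inl h1)).elim
  · exact (h.spor_false hS (Or.inr h1)).elim

end Setting

variable {G : Type u} [Group G] [Finite G]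

theorem main_types {p f M : ℕ} {m t : Fin 4 → ℕ} (h : Types G p M m t) (hY : Art.Real .E7 p f M) (h4 : 4 ≤ p ^ f)
    (hlo : ∀ i, (p ^ f) ^ 6 ≤ 10 * m i) (hhi : ∀ i, m i ≤ 2 * (p ^ f) ^ 6)
    (hS : ∀ (X : Type u) [Group X] [Finite X] [IsSimpleGroup X], Cfsg.IsKnownSimple' X) :
    ∃ S : Subgroup G, S.Normal ∧ OrdDiv.Real (.e7 (p ^ f)) S ∧ centralizer (S : Set G) = ⊥ := by
  have hp := h.prime
  have := Fact.mk hp
  obtain ⟨K, hKn, hK, -, S, hSn, hs, hna, hc⟩ := struct h hS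
  have hset : Setting (G ⧸ K) S p f M m :=
    { real := hY
      q4 := h4
      lo := hlo
      hi := hhi
      coprime := h.coprime
      big3 := h.big3
      dvd := by
        intro x
        obtain ⟨g, rfl⟩ := QuotientGroup.mk_surjective x
        exact (cs_quotient_dvd K g).trans (h.dvd g)
      typ := by
        intro x ℓ hℓ hℓp hxo
        have hx : x ≠ 1 := by
          rintro rfl
          rw [orderOf_one] at hxo
          exact hℓ.one_lt.ne hxo
        obtain ⟨g, hgx, c, hc⟩ := exists_cs hp hK hℓ hℓp (k := 1) (by rw [pow_one]; exact hxo)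
        have hg1 : g ≠ 1 := by rintro rfl; exact hx (by rw [← hgx]; rfl)
        obtain ⟨i0, hi0⟩ := Types.three h hg1
        refine ⟨i0, fun i hi => ?_⟩
        have h1 := hi0 i hi
        rw [hc] at h1
        exact ((h.coprime_p i).pow_right c).dvd_of_dvd_mul_left h1
      card := by
        obtain ⟨e, he⟩ := IsPGroup.iff_card.1 hK
        refine ⟨e, ?_⟩
        rw [← he, mul_comm, ← K.card_eq_card_quotient_mul_card_subgroup]
        exact Types.dvd_card h
      normal := hSn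
      simple := hs
      na := hna
      cent := hc }
  obtain ⟨hr, hcard, hL⟩ := hset.ident hS
  have hpS : p ∣ Nat.card S := by
    rw [hcard]
    have h1 : P p M ∣ M := P_dvd p M
    rw [hY.P_self] at h1
    exact (dvd_pow (dvd_pow_self p (by have := hY.hf; omega)) (by decide)).trans h1
  obtain ⟨x, hx1, hx⟩ := exists_class hp hL hpS
  have hKb : K = ⊥ := by
    refine kernel_eq_bot h hS K hK S hs hna hc x.2 (fun h => hx1 (Subtype.ext h)) ?_
    rw [← index_centralizer_subgroup, ← hcard]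
    exact hx
  subst hKb
  let e : G ⧸ (⊥ : Subgroup G) ≃* G := QuotientGroup.quotientBot
  refine ⟨S.map (e : G ⧸ (⊥ : Subgroup G) →* G), hSn.map _ e.surjective, ?_, ?_⟩
  · obtain ⟨F, i1, i2, hF, ⟨e'⟩⟩ := hr
    exact ⟨F, i1, i2, hF, ⟨(e.subgroupMap S).symm.trans e'⟩⟩
  · rw [eq_bot_iff]
    intro g hg
    have h1 : e.symm g ∈ centralizer (S : Set (G ⧸ (⊥ : Subgroup G))) := by
      rw [mem_centralizer_iff] at hg ⊢
      intro s hs
      apply e.injective
      rw [map_mul, map_mul, e.apply_symm_apply]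
      exact hg (e s) ⟨s, hs, rfl⟩
    rw [hc, mem_bot] at h1
    rw [mem_bot, ← e.apply_symm_apply g, h1, map_one]

theorem PN_le {q : ℕ} (hq : 4 ≤ q) (i : Fin 4) : PN q i ≤ 2 * q ^ 6 := by
  have h1 : 4 * q ^ 5 ≤ q ^ 6 := by
    have : q ^ 6 = q * q ^ 5 := by ring
    rw [this]; exact Nat.mul_le_mul_right _ hq
  have h2 : 4 * q ^ 4 ≤ q ^ 5 := by
    have : q ^ 5 = q * q ^ 4 := by ring
    rw [this]; exact Nat.mul_le_mul_right _ hq
  have h3 : 4 * q ^ 3 ≤ q ^ 4 := by
    have : q ^ 4 = q * q ^ 3 := by ring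
    rw [this]; exact Nat.mul_le_mul_right _ hq
  have h4 : 4 * q ^ 2 ≤ q ^ 3 := by
    have : q ^ 3 = q * q ^ 2 := by ring
    rw [this]; exact Nat.mul_le_mul_right _ hq
  have h5 : 4 * q ≤ q ^ 2 := by
    rw [sq]; exact Nat.mul_le_mul_right _ hq
  fin_cases i
  · show 1 + q + q ^ 2 + q ^ 3 + q ^ 4 + q ^ 5 + q ^ 6 ≤ _
    omega
  · show 1 + q ^ 3 + q ^ 6 ≤ _
    omega
  · show 1 + q ^ 2 + q ^ 4 + q ^ 6 - (q + q ^ 3 + q ^ 5) ≤ _
    omega
  · show 1 + q ^ 6 - q ^ 3 ≤ _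
    omega

/-- **The normal subgroup `E₇(q)`.** -/
theorem main {F : Type} [Field F] [Fintype F] {p f : ℕ} (hp : p.Prime) (hf : 1 ≤ f) (hF : Fintype.card F = p ^ f)
    (h4 : 4 ≤ p ^ f) (h : Types G p (Nat.card ↥(chevE7.group F)) (mv (p ^ f)) (tv (p ^ f)))
    (hS : ∀ (X : Type u) [Group X] [Finite X] [IsSimpleGroup X], Cfsg.IsKnownSimple' X) :
    ∃ S : Subgroup G, S.Normal ∧ Nonempty (S ≃* ↥(chevE7.group F)) ∧ centralizer (S : Set G) = ⊥ := by
  obtain ⟨S, hn, ⟨F', i1, i2, hF', ⟨e'⟩⟩, hc⟩ := main_types h (real_E7 hp hf hF) h4 (by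
    intro i
    have := le_mv h4 i
    omega) (by
    intro i
    refine le_trans ?_ (PN_le h4 i)
    exact Nat.div_le_self _ _) hS
  obtain ⟨e''⟩ := Iso.chev_congr (F := F') (K := F) (FiniteField.ringEquivOfCardEq (hF'.trans hF.symm)) chevE7
  exact ⟨S, hn, ⟨e'.trans e''⟩, hc⟩

end Cfsg.Agent.H310.TC7
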